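import Mathlib

/-!
# Transitive actions of subgroups with alternating image

`Act M H K d` records an action of `M` on `d` points with point stabiliser `H` and kernel `K`.
-/

set_option autoImplicit false

namespace CfsgLib.AltSub

open Equiv Subgroup
open scoped commutatorElement

section perm

variable {α : Type*} [Fintype α] [DecidableEq α]

theorem eq_one_of_commute (h4 : 4 ≤ Nat.card α) {g : Perm α} (h : ∀ a ∈ alternatingGroup α, g * a = a * g) :
    g = 1 := by
  by_contra hg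
  obtain ⟨x, hx⟩ : ∃ x, g x ≠ x := by
    by_contra hc
    push Not at hc
    exact hg (Equiv.ext hc)
  have hc : 1 < (({x, g x} : Finset α)ᶜ).card := by
    have h1 := Finset.card_add_card_compl ({x, g x} : Finset α)
    rw [Finset.card_pair (Ne.symm hx), ← Nat.card_eq_fintype_card] at h1
    omega
  obtain ⟨y, hy, z, hz, hyz⟩ := Finset.one_lt_card.1 hc
  simp only [Finset.mem_compl, Finset.mem_insert, Finset.mem_singleton, not_or] at hy hz
  have h1 := DFunLike.congr_fun (h (swap x y * swap x z)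
    (by rw [Perm.mem_alternatingGroup]; simp [Perm.sign_swap (Ne.symm hy.1), Perm.sign_swap (Ne.symm hz.1)])) x
  simp only [Perm.mul_apply, swap_apply_left, swap_apply_of_ne_of_ne hz.1 (Ne.symm hyz)] at h1
  rw [swap_apply_of_ne_of_ne hx (Ne.symm hz.2), swap_apply_of_ne_of_ne hx (Ne.symm hy.2)] at h1
  exact hz.1 (g.injective h1)

/-- A nontrivial subgroup normalised by the alternating group contains it. -/
theorem alt_le_of_normalized (h5 : 5 ≤ Nat.card α) {X : Subgroup (Perm α)}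
    (hX : ∀ a ∈ alternatingGroup α, ∀ x ∈ X, a * x * a⁻¹ ∈ X) (hne : X ≠ ⊥) : alternatingGroup α ≤ X := by
  haveI : (X.subgroupOf (alternatingGroup α)).Normal := ⟨fun x hx a => hX a a.2 x hx⟩
  rcases alternatingGroup.normal_subgroup_eq_bot_or_eq_top h5 (N := X.subgroupOf (alternatingGroup α)) with h | h
  · refine absurd ((Subgroup.eq_bot_iff_forall _).2 fun x hx => eq_one_of_commute (by omega) fun a ha => ?_) hne
    have h1 : x * a * x⁻¹ * a⁻¹ ∈ X := by
      rw [show x * a * x⁻¹ * a⁻¹ = x * (a * x⁻¹ * a⁻¹) by group]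
      exact mul_mem hx (hX a ha _ (inv_mem hx))
    have h2 : x * a * x⁻¹ * a⁻¹ ∈ alternatingGroup α := by
      rw [Perm.mem_alternatingGroup] at ha ⊢
      simp [ha]
    have h3 : (⟨_, h2⟩ : alternatingGroup α) ∈ X.subgroupOf (alternatingGroup α) := h1
    rw [h, Subgroup.mem_bot] at h3
    have h4 := congrArg Subtype.val h3
    exact mul_inv_eq_iff_eq_mul.1 (by simpa using mul_inv_eq_one.1 h4)
  · exact subgroupOf_eq_top.1 h

theorem card_alt (h2 : 2 ≤ Nat.card α) : 2 * Nat.card (alternatingGroup α) = (Nat.card α).factorial := by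
  haveI : Nontrivial α := Finite.one_lt_card_iff_nontrivial.1 (by omega)
  rw [two_mul_nat_card_alternatingGroup, Nat.card_perm]

variable {P : Type*} [Group P] (τ : P →* Perm α)

/-- The image of a normal subgroup is trivial or contains the alternating group. -/
theorem map_eq_bot_or_alt_le (h5 : 5 ≤ Nat.card α) (hτ : alternatingGroup α ≤ τ.range) (X : Subgroup P) [X.Normal] :
    X.map τ = ⊥ ∨ alternatingGroup α ≤ X.map τ := by
  refine or_iff_not_imp_left.2 fun h => alt_le_of_normalized h5 ?_ h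
  rintro a ha _ ⟨x, hx, rfl⟩
  obtain ⟨y, rfl⟩ := hτ ha
  exact ⟨y * x * y⁻¹, Subgroup.Normal.conj_mem inferInstance x hx y, by simp⟩

/-- Normal subgroups covering the alternating group have an intersection covering it. -/
theorem alt_le_map_iInf (h5 : 5 ≤ Nat.card α) (hτ : alternatingGroup α ≤ τ.range) {ι : Type*} [Finite ι]
    (X : ι → Subgroup P) (hn : ∀ i, (X i).Normal) (hX : ∀ i, alternatingGroup α ≤ (X i).map τ) :
    alternatingGroup α ≤ (⨅ i, X i).map τ := by
  classical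
  haveI : Fintype ι := Fintype.ofFinite ι
  suffices h : ∀ s : Finset ι, (⨅ i ∈ s, X i).Normal ∧ alternatingGroup α ≤ (⨅ i ∈ s, X i).map τ by
    simpa using (h Finset.univ).2
  intro s
  induction s using Finset.induction with
  | empty =>
    refine ⟨by simp only [Finset.notMem_empty, iInf_false, iInf_top]; infer_instance, ?_⟩
    simpa [← MonoidHom.range_eq_map] using hτ
  | @insert i s _ ih =>
    rw [Finset.iInf_insert]
    haveI := hn i
    haveI := ih.1
    refine ⟨inferInstance, ?_⟩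
    rw [← commutator_alternatingGroup_eq_self (α := α) h5]
    refine (Subgroup.commutator_mono (hX i) ih.2).trans ?_
    rw [← Subgroup.map_commutator]
    exact Subgroup.map_mono (Subgroup.commutator_le_inf _ _)

/-- A group with an alternating quotient is not a subdirect product of smaller groups. -/
theorem no_big_quotient [Finite P] (h5 : 5 ≤ Nat.card α) (hτ : alternatingGroup α ≤ τ.range) {ι : Type*} [Finite ι]
    (X : ι → Subgroup P) (hn : ∀ i, (X i).Normal) (hidx : ∀ i, 2 * (X i).index < (Nat.card α).factorial)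
    (hbot : ⨅ i, X i = ⊥) : False := by
  have hX : ∀ i, alternatingGroup α ≤ (X i).map τ := fun i => by
    haveI := hn i
    refine (map_eq_bot_or_alt_le τ h5 hτ (X i)).resolve_left fun h => ?_
    have h1 : τ.ker.index ≤ (X i).index :=
      Nat.le_of_dvd (Nat.pos_of_ne_zero Subgroup.index_ne_zero_of_finite)
        (Subgroup.index_dvd_of_le ((Subgroup.map_eq_bot_iff _).1 h))
    rw [Subgroup.index_ker] at h1
    have h2 := Subgroup.card_le_of_le hτ
    have h3 := card_alt (α := α) (by omega)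
    have h4 := hidx i
    omega
  have h := alt_le_map_iInf τ h5 hτ X hn hX
  rw [hbot, Subgroup.map_bot, le_bot_iff] at h
  have h1 := card_alt (α := α) (by omega)
  rw [h, Subgroup.card_bot] at h1
  have h2 : Nat.card α ≤ (Nat.card α).factorial := Nat.self_le_factorial _
  omega

end perm

variable {G : Type*} [Group G]

/-- An action of `M` on `d` points with point stabiliser `H` and kernel `K`. -/
structure Act (M H K : Subgroup G) (d : ℕ) where
  six : 6 ≤ d
  HM : H ≤ M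
  ρ : M →* Perm (Fin d)
  pt : Fin d
  ker : ∀ m : M, ρ m = 1 ↔ (m : G) ∈ K
  stab : ∀ m : M, ρ m pt = pt ↔ (m : G) ∈ H
  KM : K ≤ M

namespace Act

variable {M H K : Subgroup G} {d : ℕ} (A : Act M H K d)
include A

theorem KH : K ≤ H := fun x hx => by
  have h := (A.ker ⟨x, A.KM hx⟩).2 hx
  exact (A.stab ⟨x, A.KM hx⟩).1 (by rw [h]; rfl)

theorem conj_mem {m x : G} (hm : m ∈ M) (hx : x ∈ K) : m * x * m⁻¹ ∈ K := by
  have h := (A.ker ⟨x, A.KM hx⟩).2 hx
  refine (A.ker ⟨m * x * m⁻¹, mul_mem (mul_mem hm (A.KM hx)) (inv_mem hm)⟩).1 ?_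
  rw [show (⟨m * x * m⁻¹, _⟩ : M) = ⟨m, hm⟩ * ⟨x, A.KM hx⟩ * ⟨m, hm⟩⁻¹ from rfl, map_mul, map_mul, h, mul_one,
    ← map_mul, mul_inv_cancel, map_one]

theorem card_range [Finite G] : Nat.card A.ρ.range * Nat.card K = Nat.card M := by
  have h : A.ρ.ker = K.subgroupOf M := Subgroup.ext fun m => A.ker m
  rw [← Subgroup.index_ker, h, ← Nat.card_congr (subgroupOfEquivOfLe A.KM).toEquiv, mul_comm,
    Subgroup.card_mul_index]

theorem card_range_le [Finite G] : Nat.card A.ρ.range ≤ d.factorial := by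
  refine (Subgroup.card_le_card_group _).trans ?_
  rw [Nat.card_perm, Nat.card_fin]

variable (halt : alternatingGroup (Fin d) ≤ A.ρ.range)
include halt

/-- Two points other than the base point are exchanged by an element of `H`. -/
theorem exists_move {i j : Fin d} (hi : i ≠ A.pt) (hj : j ≠ A.pt) :
    ∃ h : M, (h : G) ∈ H ∧ A.ρ h i = j := by
  rcases eq_or_ne i j with rfl | hij
  · exact ⟨1, one_mem _, by simp⟩
  have hc : 1 < (({i, j, A.pt} : Finset (Fin d))ᶜ).card := by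
    have h1 := Finset.card_add_card_compl ({i, j, A.pt} : Finset (Fin d))
    have h2 : ({i, j, A.pt} : Finset (Fin d)).card ≤ 3 := Finset.card_le_three
    have := A.six
    rw [Fintype.card_fin] at h1
    omega
  obtain ⟨u, hu, v, hv, huv⟩ := Finset.one_lt_card.1 hc
  simp only [Finset.mem_compl, Finset.mem_insert, Finset.mem_singleton, not_or] at hu hv
  obtain ⟨m, hm⟩ := halt (show swap i j * swap u v ∈ alternatingGroup (Fin d) by
    rw [Perm.mem_alternatingGroup]; simp [Perm.sign_swap hij, Perm.sign_swap huv])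
  refine ⟨m, (A.stab m).1 ?_, ?_⟩
  · rw [hm, Perm.mul_apply, swap_apply_of_ne_of_ne (Ne.symm hu.2.2) (Ne.symm hv.2.2),
      swap_apply_of_ne_of_ne (Ne.symm hi) (Ne.symm hj)]
  · rw [hm, Perm.mul_apply, swap_apply_of_ne_of_ne (Ne.symm hu.1) (Ne.symm hv.1), swap_apply_left]

/-- `H` permutes the other cosets transitively. -/
theorem trans {n m : G} (hn : n ∈ M) (hnH : n ∉ H) (hm : m ∈ M) (hmH : m ∉ H) :
    ∃ h ∈ H, m⁻¹ * (h * n) ∈ H := by
  obtain ⟨h, hh, hmove⟩ := A.exists_move halt (fun e => hnH ((A.stab ⟨n, hn⟩).1 e))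
    (fun e => hmH ((A.stab ⟨m, hm⟩).1 e))
  refine ⟨h, hh, (A.stab (⟨m, hm⟩⁻¹ * (h * ⟨n, hn⟩))).1 ?_⟩
  rw [map_mul, map_mul, Perm.mul_apply, Perm.mul_apply, hmove, ← Perm.mul_apply, ← map_mul, inv_mul_cancel, map_one]
  rfl

/-- `H` is maximal in `M`. -/
theorem maximal {W : Subgroup G} (hHW : H ≤ W) {w : G} (hw : w ∈ W) (hwM : w ∈ M) (hwH : w ∉ H) : M ≤ W := by
  intro m hm
  by_cases hmH : m ∈ H
  · exact hHW hmH
  obtain ⟨h, hh, h2⟩ := A.trans halt hwM hwH hm hmH
  have := mul_mem (mul_mem (hHW hh) hw) (inv_mem (hHW h2))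
  rwa [show h * w * (m⁻¹ * (h * w))⁻¹ = m by group] at this

theorem exists_notMem : ∃ n ∈ M, n ∉ H := by
  have hd := A.six
  obtain ⟨i, hi⟩ : ∃ i : Fin d, i ≠ A.pt := by
    haveI : Nontrivial (Fin d) := Fin.nontrivial_iff_two_le.2 (by omega)
    exact exists_ne _
  obtain ⟨j, hj⟩ : ∃ j : Fin d, j ∉ ({i, A.pt} : Finset (Fin d)) := by
    have h1 := Finset.card_add_card_compl ({i, A.pt} : Finset (Fin d))
    rw [Fintype.card_fin, Finset.card_pair hi] at h1
    obtain ⟨j, hj⟩ := Finset.card_pos.1 (show 0 < ({i, A.pt} : Finset (Fin d))ᶜ.card by omega)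
    exact ⟨j, Finset.mem_compl.1 hj⟩
  simp only [Finset.mem_insert, Finset.mem_singleton, not_or] at hj
  obtain ⟨m, hm⟩ := halt (show swap A.pt i * swap A.pt j ∈ alternatingGroup (Fin d) by
    rw [Perm.mem_alternatingGroup]; simp [Perm.sign_swap hi.symm, Perm.sign_swap (Ne.symm hj.2)])
  refine ⟨m, m.2, fun h => ?_⟩
  have := (A.stab m).2 h
  rw [hm, Perm.mul_apply, swap_apply_left, swap_apply_of_ne_of_ne hj.2 hj.1] at this
  exact hj.2 this

/-- The kernel is the core of `H`. -/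
theorem core {x : G} (hxH : x ∈ H) (hx : ∀ n ∈ M, n ∉ H → n⁻¹ * x * n ∈ H) : x ∈ K := by
  refine (A.ker ⟨x, A.HM hxH⟩).1 (Equiv.ext fun i => ?_)
  rw [Perm.one_apply]
  rcases eq_or_ne i A.pt with rfl | hi
  · exact (A.stab _).2 hxH
  obtain ⟨n, hn, hnH⟩ := A.exists_notMem halt
  obtain ⟨h, hh, hmove⟩ := A.exists_move halt (fun e => hnH ((A.stab ⟨n, hn⟩).1 e)) hi
  set m : M := h * ⟨n, hn⟩ with hm
  have hmH : (m : G) ∉ H := fun h' => hnH (by
    have := mul_mem (inv_mem hh) h'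
    rwa [hm, Subgroup.coe_mul, inv_mul_cancel_left] at this)
  have hpt : A.ρ m A.pt = i := by rw [hm, map_mul, Perm.mul_apply, hmove]
  have h1 := (A.stab (m⁻¹ * ⟨x, A.HM hxH⟩ * m)).2 (hx m m.2 hmH)
  rw [map_mul, map_mul, map_inv, Perm.mul_apply, Perm.mul_apply, hpt, Perm.inv_eq_iff_eq, hpt] at h1
  exact h1

omit halt in
/-- The action of `H` on the other points. -/
theorem exists_sigma : ∃ σ : H →* Perm (Fin (d - 1)), (∀ h : H, σ h = 1 ↔ (h : G) ∈ K) ∧
    (alternatingGroup (Fin d) ≤ A.ρ.range → alternatingGroup (Fin (d - 1)) ≤ σ.range) ∧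
    ∀ h : H, Perm.sign (σ h) = Perm.sign (A.ρ ⟨h, A.HM h.2⟩) := by
  classical
  have hp : ∀ h : H, ∀ i, (A.ρ ⟨h, A.HM h.2⟩ i ≠ A.pt ↔ i ≠ A.pt) := fun h i => by
    conv_lhs => rw [← (A.stab ⟨h, A.HM h.2⟩).2 h.2]
    exact (A.ρ ⟨h, A.HM h.2⟩).injective.ne_iff
  have hfix : ∀ h : H, ∀ i, A.ρ ⟨h, A.HM h.2⟩ i ≠ i → i ≠ A.pt := fun h i hne e => hne (by
    rw [e]; exact (A.stab ⟨h, A.HM h.2⟩).2 h.2)
  let σ₀ : H →* Perm {i : Fin d // i ≠ A.pt} :=
    MonoidHom.mk' (fun h => (A.ρ ⟨h, A.HM h.2⟩).subtypePerm (hp h)) fun a b => Equiv.ext fun i => Subtype.ext (by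
      show A.ρ ⟨(a * b : H), _⟩ i.1 = A.ρ ⟨a, _⟩ (A.ρ ⟨b, _⟩ i.1)
      rw [← Perm.mul_apply, ← map_mul]
      rfl)
  obtain ⟨e⟩ : Nonempty ({i : Fin d // i ≠ A.pt} ≃ Fin (d - 1)) :=
    ⟨Fintype.equivFinOfCardEq (by
      rw [Fintype.card_subtype_compl, Fintype.card_fin, Fintype.card_subtype_eq])⟩
  refine ⟨e.permCongrHom.toMonoidHom.comp σ₀, fun h => ?_, fun halt a ha => ?_, fun h => ?_⟩
  · show e.permCongrHom (σ₀ h) = 1 ↔ _
    rw [MulEquiv.map_eq_one_iff, ← A.ker ⟨h, A.HM h.2⟩]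
    constructor
    · intro h1
      rw [← Perm.ofSubtype_subtypePerm (hp h) (hfix h)]
      exact (congrArg Perm.ofSubtype h1).trans (map_one _)
    · intro h1
      exact Equiv.ext fun i => Subtype.ext (by show A.ρ ⟨h, A.HM h.2⟩ i.1 = i.1; rw [h1]; rfl)
  · obtain ⟨m, hm⟩ := halt (show Perm.ofSubtype (e.permCongrHom.symm a) ∈ alternatingGroup (Fin d) by
      rw [Perm.mem_alternatingGroup, Perm.sign_ofSubtype]
      exact (Perm.sign_permCongr e.symm a).trans (Perm.mem_alternatingGroup.1 ha))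
    have hmH : (m : G) ∈ H := (A.stab m).1 (by
      rw [hm, Perm.ofSubtype_apply_of_not_mem]; simp)
    refine ⟨⟨m, hmH⟩, ?_⟩
    show e.permCongrHom (σ₀ ⟨m, hmH⟩) = a
    rw [← MulEquiv.eq_symm_apply]
    refine Equiv.ext fun i => Subtype.ext ?_
    show A.ρ m i.1 = _
    rw [hm, Perm.ofSubtype_apply_coe]
  · show Perm.sign (e.permCongr (σ₀ h)) = _
    rw [Perm.sign_permCongr]
    exact Perm.sign_subtypePerm _ (hp h) (hfix h)

end Act

end CfsgLib.AltSub
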