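import Cfsg.Agent.Lib.SuborbitBound.Alt.Side

/-!
# A point stabiliser with two faithless alternating suborbit actions
-/

set_option autoImplicit false

namespace CfsgLib.AltSub

open Equiv Subgroup
open scoped commutatorElement

variable {G : Type*} [Group G] {M N H K B : Subgroup G} {d : ℕ}

theorem alt_le_of_card (X : Subgroup (Perm (Fin d))) (h : d.factorial ≤ 2 * Nat.card X) :
    alternatingGroup (Fin d) ≤ X := by
  refine Perm.alternatingGroup_le_of_index_le_two ?_
  have h1 := X.card_mul_index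
  rw [Nat.card_perm, Nat.card_fin] at h1
  by_contra hlt
  have h2 : 3 * Nat.card X ≤ Nat.card X * X.index := by
    rw [mul_comm 3]
    exact Nat.mul_le_mul_left _ (by omega)
  have h3 : 0 < Nat.card X := Nat.card_pos
  omega

theorem comm_of_inf_bot {X Y : Subgroup G} (hX : Inv H X) (hY : Inv H Y) (hXH : X ≤ H) (hYH : Y ≤ H)
    (hXY : X ⊓ Y = ⊥) {x y : G} (hx : x ∈ X) (hy : y ∈ Y) : x * y = y * x := by
  have h : x * y * x⁻¹ * y⁻¹ ∈ X ⊓ Y := ⟨by
    rw [show x * y * x⁻¹ * y⁻¹ = x * (y * x⁻¹ * y⁻¹) by group]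
    exact mul_mem hx (hX y (hYH hy) _ (X.inv_mem hx)), mul_mem (hY x (hXH hx) y hy) (Y.inv_mem hy)⟩
  rw [hXY, Subgroup.mem_bot, mul_inv_eq_one] at h
  exact mul_inv_eq_iff_eq_mul.1 h

namespace Act

variable (A : Act M H K d)
include A

theorem normal_subgroupOf : (K.subgroupOf M).Normal := ⟨fun _ hx m => A.conj_mem m.2 hx⟩

theorem inv : Inv M K := fun _ hm _ hx => A.conj_mem hm hx

theorem invH : Inv H K := fun _ hh _ hx => A.conj_mem (A.HM hh) hx

end Act

/-- The image of `N` on the cosets of `H` contains the alternating group. -/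
theorem alt_le_range [Finite G] (P : Act M H K d) (Q : Act N H B d) (hP : alternatingGroup (Fin d) ≤ P.ρ.range)
    (e : M ≃* N) (hor : CoreFree N (B ⊓ K) ∨ CoreFree M (B ⊓ K)) : alternatingGroup (Fin d) ≤ Q.ρ.range := by
  have hd := P.six
  set τ : N →* Perm (Fin d) := P.ρ.comp e.symm.toMonoidHom with hτdef
  have hτ : τ.range = P.ρ.range := le_antisymm (by rintro _ ⟨n, rfl⟩; exact ⟨e.symm n, rfl⟩) (by
    rintro _ ⟨m, rfl⟩
    exact ⟨e m, congrArg P.ρ (e.symm_apply_apply m)⟩)
  have h5 : 5 ≤ Nat.card (Fin d) := by rw [Nat.card_fin]; omega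
  haveI := Q.normal_subgroupOf
  rcases map_eq_bot_or_alt_le τ h5 (hτ ▸ hP) (B.subgroupOf N) with h | h
  · refine alt_le_of_card _ ?_
    have hker : Q.ρ.ker = B.subgroupOf N := Subgroup.ext fun n => Q.ker n
    have h1 := Subgroup.index_dvd_of_le (hker.le.trans ((Subgroup.map_eq_bot_iff _).1 h))
    rw [Subgroup.index_ker, Subgroup.index_ker, hτ] at h1
    have h2 := Nat.le_of_dvd Nat.card_pos h1
    have h3 := Subgroup.card_le_of_le hP
    have h4 := card_alt (α := Fin d) (by omega)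
    rw [Nat.card_fin] at h4
    omega
  · exfalso
    obtain ⟨σ, hσ, -, -⟩ := P.exists_sigma
    set τ' : B →* Perm (Fin d) := τ.comp (Subgroup.inclusion Q.KM) with hτ'def
    have hτ' : alternatingGroup (Fin d) ≤ τ'.range := by
      rw [hτ'def, MonoidHom.range_comp, Subgroup.inclusion_range]
      exact h
    haveI : (K.subgroupOf B).Normal := ⟨fun _ hx b => P.conj_mem (P.HM (Q.KH b.2)) hx⟩
    rcases map_eq_bot_or_alt_le τ' h5 hτ' (K.subgroupOf B) with h0 | h0
    · have hker : (σ.comp (Subgroup.inclusion Q.KH)).ker = K.subgroupOf B := Subgroup.ext fun b => hσ _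
      have h1 := Subgroup.index_dvd_of_le ((Subgroup.map_eq_bot_iff _).1 h0)
      rw [← hker, Subgroup.index_ker, Subgroup.index_ker] at h1
      have h2 := Nat.le_of_dvd Nat.card_pos h1
      have h2' : Nat.card (σ.comp (Subgroup.inclusion Q.KH)).range ≤ (d - 1).factorial :=
        (Subgroup.card_le_card_group _).trans (by rw [Nat.card_perm, Nat.card_fin])
      have h3 := Subgroup.card_le_of_le hτ'
      have h4 := card_alt (α := Fin d) (by omega)
      have h5 := (factorial_bound hd).1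
      rw [Nat.card_fin] at h4
      omega
    · set S : Subgroup G := B ⊓ K with hS
      have hτS : alternatingGroup (Fin d) ≤ (τ'.comp (Subgroup.inclusion (inf_le_left : S ≤ B))).range := by
        rw [MonoidHom.range_comp, Subgroup.inclusion_range, Subgroup.inf_subgroupOf_left]
        exact h0
      rcases hor with hc | hc
      · exact no_alt_sub P Q.KH Q.inv hc inf_le_left _ hτS
      · exact no_alt_sub Q P.KH P.inv (by rw [inf_comm]; exact hc) inf_le_right _ hτS

theorem le_of_le [Finite G] (P : Act M H K d) (Q : Act N H B d) (hP : alternatingGroup (Fin d) ≤ P.ρ.range)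
    (hQ : alternatingGroup (Fin d) ≤ Q.ρ.range) (hcard : Nat.card M = Nat.card N) (hBK : B ≤ K) : K ≤ B := by
  have hd := P.six
  obtain ⟨σ, hσ, hσalt, -⟩ := Q.exists_sigma
  haveI : (K.subgroupOf H).Normal := ⟨fun _ hx h => P.invH h h.2 _ hx⟩
  rcases map_eq_bot_or_alt_le σ (by rw [Nat.card_fin]; omega) (hσalt hQ) (K.subgroupOf H) with h | h
  · exact fun x hx => (hσ ⟨x, P.KH hx⟩).1 ((Subgroup.eq_bot_iff_forall _).1 h _ ⟨⟨x, P.KH hx⟩, hx, rfl⟩)
  · exfalso
    set f : K →* Perm (Fin (d - 1)) := σ.comp (Subgroup.inclusion P.KH) with hfdef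
    have hf : alternatingGroup (Fin (d - 1)) ≤ f.range := by
      rw [hfdef, MonoidHom.range_comp, Subgroup.inclusion_range]
      exact h
    have hker : f.ker = B.subgroupOf K := Subgroup.ext fun k => hσ _
    have h1 := (B.subgroupOf K).index_mul_card
    rw [← hker, Subgroup.index_ker, hker, Nat.card_congr (subgroupOfEquivOfLe hBK).toEquiv] at h1
    have hPc := P.card_range
    have hQc := Q.card_range
    have hQle := Nat.mul_le_mul_right (Nat.card B) Q.card_range_le
    have hPle := Nat.mul_le_mul_right (Nat.card K) (Subgroup.card_le_of_le hP)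
    have hA := card_alt (α := Fin d) (by rw [Nat.card_fin]; omega)
    rw [Nat.card_fin] at hA
    have h5 : (5 : ℕ).factorial ≤ (d - 1).factorial := Nat.factorial_le (by omega)
    rw [show (5 : ℕ).factorial = 120 from rfl] at h5
    have hA' := card_alt (α := Fin (d - 1)) (by rw [Nat.card_fin]; omega)
    rw [Nat.card_fin] at hA'
    have hfc := Nat.mul_le_mul_right (Nat.card B) (Subgroup.card_le_of_le hf)
    have hB : 0 < Nat.card B := Nat.card_pos
    have hAB : 3 * Nat.card B ≤ Nat.card (alternatingGroup (Fin (d - 1))) * Nat.card B :=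
      Nat.mul_le_mul_right _ (by omega)
    -- `|K| ≥ 3 |B|`, yet `d! |K| ≤ 2 d! |B|`
    have hK3 : 3 * Nat.card B ≤ Nat.card K := by omega
    have h6 := Nat.mul_le_mul_left d.factorial hK3
    have h7 : d.factorial * Nat.card K ≤ 2 * (d.factorial * Nat.card B) := by
      rw [← hA, mul_assoc]
      exact le_trans (Nat.mul_le_mul_left 2 hPle) (by
        rw [← mul_assoc, ← mul_assoc]
        calc 2 * Nat.card P.ρ.range * Nat.card K = 2 * Nat.card M := by rw [mul_assoc, hPc]
          _ = 2 * (Nat.card Q.ρ.range * Nat.card B) := by rw [hQc, hcard]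
          _ ≤ 2 * (d.factorial * Nat.card B) := Nat.mul_le_mul_left 2 hQle
          _ = 2 * (2 * Nat.card (alternatingGroup (Fin d))) * Nat.card B := by rw [hA]; ring)
    have h8 : 0 < d.factorial * Nat.card B := Nat.mul_pos (Nat.factorial_pos _) hB
    rw [Nat.mul_left_comm] at h6
    omega

theorem not_le_kernel [Finite G] (P : Act M H K d) (Q : Act N H B d) (hP : alternatingGroup (Fin d) ≤ P.ρ.range)
    (hQ : alternatingGroup (Fin d) ≤ Q.ρ.range) (hcard : Nat.card M = Nat.card N) (hK : K ≠ ⊥)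
    (hjoin : ∀ X : Subgroup G, X ≤ H → Inv M X → Inv N X → X = ⊥) : ¬ B ≤ K ∧ ¬ K ≤ B := by
  have key : B = K → False := fun h => hK (hjoin K P.KH P.inv (h ▸ Q.inv))
  exact ⟨fun h => key (le_antisymm h (le_of_le P Q hP hQ hcard h)),
    fun h => key (le_antisymm (le_of_le Q P hQ hP hcard.symm h) h)⟩

/-- The kernels meet trivially. -/
theorem inf_eq_bot_of_coreFree [Finite G] (P : Act M H K d) (Q : Act N H B d)
    (hP : alternatingGroup (Fin d) ≤ P.ρ.range)
    (hQ : alternatingGroup (Fin d) ≤ Q.ρ.range) (hBK : ¬ B ≤ K) (hKB : ¬ K ≤ B) (e : M ≃* N)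
    (hab : ∀ X : Subgroup G, X ≤ H → Inv H X → (∀ x ∈ X, ∀ y ∈ X, x * y = y * x) → X = ⊥)
    (hc : CoreFree N (B ⊓ K)) : B ⊓ K = ⊥ := by
  have hd := P.six
  by_contra hD
  have hDH : B ⊓ K ≤ H := inf_le_left.trans Q.KH
  have hHD : Inv H (B ⊓ K) := fun h hh x hx => ⟨Q.invH h hh x hx.1, P.invH h hh x hx.2⟩
  obtain ⟨T, hTB, hTne, hTK, hHT, hclause, hlast⟩ := (side P Q hP hQ hBK hab hc).resolve_left hD
  have hTD : T ⊓ (B ⊓ K) = ⊥ := le_bot_iff.1 ((inf_le_inf le_rfl inf_le_right).trans hTK.le)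
  by_cases hM : CoreFree M (K ⊓ B)
  · rcases side Q P hQ hP hKB hab hM with h | ⟨T', hT'K, hT'ne, hT'B, hHT', -, -⟩
    · exact hD (by rw [inf_comm]; exact h)
    refine hT'ne ((Subgroup.eq_bot_iff_forall _).2 fun t ht => ?_)
    refine hclause (B ⊓ K) le_rfl hHD hD t (hT'K ht) fun x hx => ?_
    exact comm_of_inf_bot hHT' hHD (hT'K.trans P.KH) hDH
      (le_bot_iff.1 ((inf_le_inf le_rfl inf_le_left).trans hT'B.le)) ht hx
  · obtain ⟨x0, hx0, hx01⟩ : ∃ x, (∀ m ∈ M, m⁻¹ * x * m ∈ K ⊓ B) ∧ x ≠ 1 := by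
      simpa [CoreFree] using hM
    let A2 : Subgroup G :=
      { carrier := {x | ∀ m ∈ M, m⁻¹ * x * m ∈ B ⊓ K}
        one_mem' := fun m _ => by rw [mul_one, inv_mul_cancel]; exact one_mem _
        mul_mem' := fun {x y} hx hy m hm => by
          rw [show m⁻¹ * (x * y) * m = m⁻¹ * x * m * (m⁻¹ * y * m) by group]
          exact mul_mem (hx m hm) (hy m hm)
        inv_mem' := fun {x} hx m hm => by
          rw [show m⁻¹ * x⁻¹ * m = (m⁻¹ * x * m)⁻¹ by group]
          exact inv_mem (hx m hm) }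
    have hA2D : A2 ≤ B ⊓ K := fun x hx => by simpa using hx 1 (one_mem _)
    have hA2M : Inv M A2 := fun g hg x hx m hm => by
      rw [show m⁻¹ * (g * x * g⁻¹) * m = (g⁻¹ * m)⁻¹ * x * (g⁻¹ * m) by group]
      exact hx _ (mul_mem (inv_mem hg) hm)
    have hA2ne : A2 ≠ ⊥ := fun h =>
      hx01 ((Subgroup.eq_bot_iff_forall _).1 h x0 fun m hm => by rw [inf_comm]; exact hx0 m hm)
    let C : Subgroup M :=
      { carrier := {c | ∀ x ∈ A2, (c : G) * x = x * c}
        one_mem' := fun x _ => by simp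
        mul_mem' := fun {a b} ha hb x hx => by
          rw [Subgroup.coe_mul, mul_assoc, hb x hx, ← mul_assoc, ha x hx, mul_assoc]
        inv_mem' := fun {a} ha x hx => by
          rw [Subgroup.coe_inv, inv_mul_eq_iff_eq_mul, ← mul_assoc, ha x hx, mul_inv_cancel_right] }
    haveI : C.Normal := ⟨fun c hc m x hx => by
      have h1 := hc _ (hA2M _ (inv_mem m.2) x hx)
      rw [Subgroup.coe_mul, Subgroup.coe_mul, Subgroup.coe_inv]
      calc (m : G) * c * (m : G)⁻¹ * x
          = m * ((c : G) * ((m : G)⁻¹ * x * (m : G)⁻¹⁻¹)) * (m : G)⁻¹ := by group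
        _ = m * ((m : G)⁻¹ * x * (m : G)⁻¹⁻¹ * c) * (m : G)⁻¹ := by rw [h1]
        _ = x * (m * c * (m : G)⁻¹) := by group⟩
    have hCK : ∀ c ∈ C, (c : G) ∈ K → c = 1 := fun c hc hk => Subtype.ext
      (hclause A2 hA2D (fun h hh => hA2M h (P.HM hh)) hA2ne c hk fun x hx => hc x hx)
    obtain ⟨t, ht, ht1⟩ := (Subgroup.bot_or_exists_ne_one T).resolve_left hTne
    have htC : (⟨t, P.HM (Q.KH (hTB ht))⟩ : M) ∈ C := fun x hx =>
      comm_of_inf_bot hHT hHD (hTB.trans Q.KH) hDH hTD ht (hA2D hx)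
    -- the image of `C` in `N` meets `B` trivially
    let SN : Subgroup N := C.map e.toMonoidHom
    have hSNn : SN.Normal := Subgroup.Normal.map inferInstance _ e.surjective
    have hSB : SN ⊓ B.subgroupOf N = ⊥ := by
      haveI := Q.normal_subgroupOf
      haveI := hSNn
      let τ : N →* Perm (Fin d) := P.ρ.comp e.symm.toMonoidHom
      have hτ : alternatingGroup (Fin d) ≤ τ.range := by
        refine hP.trans ?_
        rintro _ ⟨m, rfl⟩
        exact ⟨e m, congrArg P.ρ (e.symm_apply_apply m)⟩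
      rcases map_eq_bot_or_alt_le τ (by rw [Nat.card_fin]; omega) hτ (SN ⊓ B.subgroupOf N) with h | h
      · refine (Subgroup.eq_bot_iff_forall _).2 fun y hy => ?_
        obtain ⟨c, hc, rfl⟩ := hy.1
        have h1 : P.ρ (e.symm (e c)) = 1 := (Subgroup.eq_bot_iff_forall _).1 h _ ⟨_, hy, rfl⟩
        rw [e.symm_apply_apply] at h1
        rw [hCK c hc ((P.ker c).1 h1)]
        exact map_one _
      · exfalso
        set S : Subgroup G := (SN ⊓ B.subgroupOf N).map N.subtype with hS
        have hSN : S ≤ N := map_subtype_le _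
        have hSB : S ≤ B := by
          rintro _ ⟨y, hy, rfl⟩
          exact hy.2
        refine no_alt_sub P Q.KH Q.inv hc hSB (τ.comp (Subgroup.inclusion hSN)) ?_
        rw [MonoidHom.range_comp, Subgroup.inclusion_range, hS, Subgroup.subgroupOf,
          Subgroup.comap_map_eq_self_of_injective N.subtype_injective]
        exact h
    have hbot : SN = ⊥ := by
      refine le_bot_iff.1 (fun s hs => ?_)
      rw [← hSB]
      refine ⟨hs, hlast (SN.map N.subtype) (map_subtype_le _) ?_ ⟨s, hs, rfl⟩⟩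
      rintro _ ⟨s', hs', rfl⟩ b hb
      exact congrArg Subtype.val (Subgroup.commute_of_normal_of_disjoint _ _ hSNn Q.normal_subgroupOf
        (disjoint_iff.2 hSB) s' ⟨b, Q.KM hb⟩ hs' hb).eq
    have h2 := (Subgroup.eq_bot_iff_forall _).1 hbot _ ⟨_, htC, rfl⟩
    exact ht1 (congrArg Subtype.val ((MulEquiv.map_eq_one_iff e).1 h2))

theorem inf_eq_bot [Finite G] (P : Act M H K d) (Q : Act N H B d) (hP : alternatingGroup (Fin d) ≤ P.ρ.range)
    (hQ : alternatingGroup (Fin d) ≤ Q.ρ.range) (hBK : ¬ B ≤ K) (hKB : ¬ K ≤ B) (e : M ≃* N)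
    (hab : ∀ X : Subgroup G, X ≤ H → Inv H X → (∀ x ∈ X, ∀ y ∈ X, x * y = y * x) → X = ⊥)
    (hor : CoreFree N (B ⊓ K) ∨ CoreFree M (B ⊓ K)) : B ⊓ K = ⊥ := by
  rcases hor with hc | hc
  · exact inf_eq_bot_of_coreFree P Q hP hQ hBK hKB e hab hc
  · rw [inf_comm] at hc ⊢
    exact inf_eq_bot_of_coreFree Q P hQ hP hKB hBK e.symm hab hc

end CfsgLib.AltSub
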