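import Cfsg.Agent.Lib.SuborbitBound.Alt.Split
import Cfsg.Agent.Lib.SuborbitBound.FittingTrivial

/-!
# Point stabilisers with an alternating unfaithful suborbit
-/

set_option autoImplicit false

namespace CfsgLib.AltSub

open Equiv Subgroup CfsgLib.Classical22.TWCores

variable {G : Type*} [Group G] [Finite G] {Ω : Type*} [MulAction G Ω]

theorem not_isPGroup_alternating {n : ℕ} (hn : 5 ≤ n) {q : ℕ} [Fact q.Prime] :
    ¬ IsPGroup q (alternatingGroup (Fin n)) := by
  intro h
  haveI := h.isNilpotent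
  have h5 : 5 ≤ Nat.card (Fin n) := by rwa [Nat.card_fin]
  haveI : Nontrivial (alternatingGroup (Fin n)) := Finite.one_lt_card_iff_nontrivial.1 (by
    have h1 := card_alt (α := Fin n) (by omega)
    have h2 : (5 : ℕ).factorial ≤ n.factorial := Nat.factorial_le hn
    rw [show (5 : ℕ).factorial = 120 from rfl] at h2
    rw [Nat.card_fin] at h1
    omega)
  exact (IsSolvable.commutator_lt_top_of_nontrivial (alternatingGroup (Fin n))).ne
    (commutator_alternatingGroup_eq_top h5)

theorem exists_act {M H : Subgroup G} {d : ℕ} (h6 : 6 ≤ d) (HM : H ≤ M) {X : Type*} (f : M →* Perm X)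
    (e : X ≃ Fin d) (x : X) (hs : ∀ m, f m x = x ↔ (m : G) ∈ H) :
    ∃ A : Act M H (f.ker.map M.subtype) d, A.ρ.range.index = f.range.index := by
  refine ⟨{ six := h6, HM := HM, ρ := e.permCongrHom.toMonoidHom.comp f, pt := e x, ker := fun m => ?_,
            stab := fun m => ?_, KM := map_subtype_le _ }, ?_⟩
  · show e.permCongrHom (f m) = 1 ↔ _
    rw [MulEquiv.map_eq_one_iff]
    exact ⟨fun h => ⟨m, h, rfl⟩, fun ⟨m', h', he⟩ => by rw [← Subtype.ext he (a1 := m')]; exact h'⟩
  · show e.permCongr (f m) (e x) = e x ↔ _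
    rw [Equiv.permCongr_apply, Equiv.symm_apply_apply, EmbeddingLike.apply_eq_iff_eq, hs]
  · show (e.permCongrHom.toMonoidHom.comp f).range.index = _
    rw [MonoidHom.range_comp]
    exact Subgroup.index_map_of_bijective (f := e.permCongrHom.toMonoidHom) e.permCongrHom.bijective f.range

theorem main [FaithfulSMul G Ω] [Finite Ω]
    (hprim : MulAction.IsPreprimitive G Ω) (a b : Ω) (d : ℕ)
    (hd : Nat.card (MulAction.orbit (MulAction.stabilizer G a) b) = d) (h6 : 6 ≤ d)
    (halt : (MulAction.toPermHom (MulAction.stabilizer G a) (MulAction.orbit (MulAction.stabilizer G a) b)).range.index ≤ 2)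
    (hunf : ¬ Function.Injective (MulAction.toPermHom (MulAction.stabilizer G a) (MulAction.orbit (MulAction.stabilizer G a) b))) :
    ((MulAction.toPermHom (MulAction.stabilizer G a) (MulAction.orbit (MulAction.stabilizer G a) b)).range.index = 2 ∧
      Nonempty (MulAction.stabilizer G a ≃* alternatingGroup (Fin d) × alternatingGroup (Fin (d - 1)))) ∨
    ((MulAction.toPermHom (MulAction.stabilizer G a) (MulAction.orbit (MulAction.stabilizer G a) b)).range = ⊤ ∧
      (Nonempty (MulAction.stabilizer G a ≃* Equiv.Perm (Fin d) × Equiv.Perm (Fin (d - 1))) ∨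
       Nonempty (MulAction.stabilizer G a ≃* Equiv.Perm (Fin d) × alternatingGroup (Fin (d - 1))) ∨
       Nonempty (MulAction.stabilizer G a ≃* ((Equiv.Perm.sign.comp (MonoidHom.fst (Equiv.Perm (Fin d)) (Equiv.Perm (Fin (d - 1))))) *
         (Equiv.Perm.sign.comp (MonoidHom.snd (Equiv.Perm (Fin d)) (Equiv.Perm (Fin (d - 1)))))).ker))) := by
  classical
  haveI := hprim.toIsPretransitive
  have hd1 := (CfsgLib.SuborbitBound.relIndex_stabilizer (G := G) a b).trans hd
  obtain ⟨g, hg⟩ := MulAction.exists_smul_eq G a b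
  set M := MulAction.stabilizer G a with hMdef
  set N := MulAction.stabilizer G b with hNdef
  have hNM : N = M.map (MulAut.conj g).toMonoidHom := by
    rw [hNdef, ← hg, MulAction.stabilizer_smul_eq_stabilizer_map_conj]
  haveI : Nontrivial Ω := ⟨a, b, fun e => by
    subst e
    rw [inf_idem, Subgroup.relIndex_self] at hd1
    omega⟩
  have hne : M ≠ N := fun e => by
    rw [← e, inf_idem, Subgroup.relIndex_self] at hd1
    omega
  have hM : IsCoatom M := (MulAction.isCoatom_stabilizer_iff_preprimitive G a).mpr hprim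
  have hN : IsCoatom N := (MulAction.isCoatom_stabilizer_iff_preprimitive G b).mpr hprim
  have hcM : M.normalCore = ⊥ := CfsgLib.Solvable.normalCore_stabilizer_eq_bot a
  have hcN : N.normalCore = ⊥ := CfsgLib.Solvable.normalCore_stabilizer_eq_bot b
  let e : M ≃* N := (M.equivMapOfInjective (MulAut.conj g).toMonoidHom (MulAut.conj g).injective).trans
    (MulEquiv.subgroupCongr hNM.symm)
  set H := M ⊓ N with hH
  -- the action of `M`
  set ρ₀ := MulAction.toPermHom M (MulAction.orbit M b) with hρ₀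
  set K : Subgroup G := ρ₀.ker.map M.subtype with hKdef
  let eΔ : MulAction.orbit M b ≃ Fin d := Finite.equivFinOfCardEq hd
  obtain ⟨P, hPidx⟩ := exists_act (H := H) h6 inf_le_left ρ₀ eΔ ⟨b, MulAction.mem_orbit_self b⟩ fun m =>
    ⟨fun h => ⟨m.2, MulAction.mem_stabilizer_iff.2 (congrArg Subtype.val h)⟩,
      fun h => Subtype.ext (MulAction.mem_stabilizer_iff.1 h.2)⟩
  have hP : alternatingGroup (Fin d) ≤ P.ρ.range :=
    Perm.alternatingGroup_le_of_index_le_two (hPidx ▸ halt)
  -- the action of `N`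
  have hcardN : Nat.card N = Nat.card M := (Nat.card_congr e.toEquiv).symm
  have hd2 : H.relIndex N = d := by
    have h1 := (H.subgroupOf M).card_mul_index
    have h2 := (H.subgroupOf N).card_mul_index
    rw [Nat.card_congr (subgroupOfEquivOfLe (inf_le_left : H ≤ M)).toEquiv] at h1
    rw [Nat.card_congr (subgroupOfEquivOfLe (inf_le_right : H ≤ N)).toEquiv, hcardN, ← h1] at h2
    exact (Nat.eq_of_mul_eq_mul_left Nat.card_pos h2).trans hd1
  let eX : N ⧸ H.subgroupOf N ≃ Fin d := Finite.equivFinOfCardEq hd2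
  obtain ⟨Q, -⟩ := exists_act (H := H) h6 inf_le_right (MulAction.toPermHom N (N ⧸ H.subgroupOf N)) eX
    ((1 : N) : N ⧸ H.subgroupOf N) fun m => by
      show ((m * 1 : N) : N ⧸ H.subgroupOf N) = _ ↔ _
      rw [mul_one, QuotientGroup.eq, mul_one, Subgroup.inv_mem_iff, Subgroup.mem_subgroupOf]
  set B : Subgroup G := (MulAction.toPermHom N (N ⧸ H.subgroupOf N)).ker.map N.subtype
  have hK : K ≠ ⊥ := fun h => hunf ((MonoidHom.ker_eq_bot_iff _).1
    ((Subgroup.map_eq_bot_iff_of_injective _ M.subtype_injective).1 h))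
  have hjoin : ∀ X : Subgroup G, X ≤ H → Inv M X → Inv N X → X = ⊥ := by
    intro X hX hXM hXN
    by_contra hb
    refine hne ((hN.le_iff.1 ?_).resolve_left hM.1)
    rw [← normalizer_eq_of_core hM hcM (hX.trans inf_le_left) hb (le_normalizer_of_conj hXM)]
    exact le_normalizer_of_conj hXN
  -- `H` has no non-trivial normal subgroup of prime power order
  have hcard : ∀ q, Nat.card (coreP q N) = Nat.card (coreP q M) := fun q => by
    rw [hNM]; exact card_coreP_conj q M g
  have hq : ∀ q : ℕ, q.Prime → coreP q H = ⊥ := by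
    intro q hq
    haveI : Fact q.Prime := ⟨hq⟩
    obtain ⟨σ, hσ, hσalt, -⟩ := P.exists_sigma
    have hPH : coreP q H ≤ H := map_subtype_le _
    haveI : ((coreP q H).subgroupOf H).Normal :=
      ⟨fun x hx h => (mem_normalizer_iff.1 (le_normalizer_coreP q H h.2) (x : G)).1 hx⟩
    have hPK : coreP q H ≤ K := by
      rcases map_eq_bot_or_alt_le σ (by rw [Nat.card_fin]; omega) (hσalt hP) ((coreP q H).subgroupOf H) with h | h
      · exact fun x hx => (hσ ⟨x, hPH hx⟩).1
          ((Subgroup.eq_bot_iff_forall _).1 h _ ⟨⟨x, hPH hx⟩, hx, rfl⟩)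
      · exact absurd (((isPGroup_coreP q H).comap_subtype.map σ).to_le h)
          (not_isPGroup_alternating (by omega))
    have hKn : M ≤ normalizer (K : Set G) := le_normalizer_of_conj P.inv
    have hle : coreP q H ≤ coreP q M :=
      le_coreP (subnormalIn_trans (subnormalIn_of_normalized hPK (P.KH.trans (le_normalizer_coreP q _))) P.KM hKn)
        (isPGroup_coreP q _)
    have heq : coreP q M ⊓ K = coreP q H := by
      refine le_antisymm (le_coreP (subnormalIn_of_normalized (inf_le_right.trans P.KH) ?_)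
        ((isPGroup_coreP q M).to_le inf_le_left)) (le_inf hle hPK)
      exact CfsgLib.Solvable.le_normalizer_inf (inf_le_left.trans (le_normalizer_coreP q M)) (inf_le_left.trans hKn)
    refine CfsgLib.SuborbitBound.coreP_inf_eq_bot hM hN hne hcM hcN (hcard q) hle ?_
    rw [← heq]
    exact CfsgLib.Solvable.le_normalizer_inf (le_normalizer_coreP q M) hKn
  have hab : ∀ X : Subgroup G, X ≤ H → Inv H X → (∀ x ∈ X, ∀ y ∈ X, x * y = y * x) → X = ⊥ := by
    intro X hX hXH hcomm
    by_contra hb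
    obtain ⟨q, hqp, hqd⟩ := Nat.exists_prime_and_dvd (fun h => hb (eq_bot_of_card_eq _ h) : Nat.card X ≠ 1)
    haveI : Fact q.Prime := ⟨hqp⟩
    obtain ⟨x, hx⟩ := exists_prime_orderOf_dvd_card' q hqd
    let Y : Subgroup G :=
      { carrier := {y | y ∈ X ∧ y ^ q = 1}
        one_mem' := ⟨one_mem _, one_pow _⟩
        mul_mem' := fun {u v} hu hv => ⟨mul_mem hu.1 hv.1, by
          rw [Commute.mul_pow (hcomm u hu.1 v hv.1), hu.2, hv.2, one_mul]⟩
        inv_mem' := fun {u} hu => ⟨X.inv_mem hu.1, by rw [inv_pow, hu.2, inv_one]⟩ }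
    have hxY : (x : G) ∈ Y := ⟨x.2, by rw [← hx, ← Subgroup.coe_pow, pow_orderOf_eq_one]; rfl⟩
    have hYq : IsPGroup q Y := fun y => ⟨1, Subtype.ext (by rw [pow_one, Subgroup.coe_pow]; exact y.2.2)⟩
    have hYn : SubnormalIn Y H := subnormalIn_of_normalized (fun y hy => hX hy.1)
      (le_normalizer_of_conj fun h hh y hy => ⟨hXH h hh y hy.1, by rw [conj_pow, hy.2, mul_one, mul_inv_cancel]⟩)
    have h1 := le_coreP hYn hYq hxY
    rw [hq q hqp, Subgroup.mem_bot] at h1
    have h2 : x = 1 := Subtype.ext h1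
    rw [h2, orderOf_one] at hx
    exact hqp.one_lt.ne hx
  have hor : CoreFree N (B ⊓ K) ∨ CoreFree M (B ⊓ K) := by
    by_contra! hcon
    obtain ⟨hcN', hcM'⟩ := hcon
    have hmk : ∀ L : Subgroup G, B ⊓ K ≤ L → ¬ CoreFree L (B ⊓ K) → coreIn L (B ⊓ K) ≠ ⊥ := by
      intro L hL hnc hbot
      refine hnc fun x hx => (Subgroup.eq_bot_iff_forall _).1 hbot x (mem_coreIn.2 ⟨hL ?_, fun m hm => ?_⟩)
      · simpa using hx 1 (one_mem _)
      · simpa using hx m⁻¹ (inv_mem hm)
    have ha := hmk M (inf_le_right.trans P.KM) hcM'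
    have hb := hmk N (inf_le_left.trans Q.KM) hcN'
    obtain ⟨p, hp, hpG, -⟩ := Classical22.TWCores.main hM hN hne hcM hcN hcard ha hb
      (fun x hx => mem_coreIn.2 ⟨Q.KM (coreIn_le _ _ hx).1, fun n hn => Q.KH (Q.inv n hn x (coreIn_le _ _ hx).1)⟩)
      (fun x hx => mem_coreIn.2 ⟨P.KM (coreIn_le _ _ hx).2, fun n hn => P.KH (P.inv n hn x (coreIn_le _ _ hx).2)⟩)
      (le_normalizer_coreIn _ _) (le_normalizer_coreIn _ _)
    haveI : Fact p.Prime := ⟨hp⟩
    refine ha (le_bot_iff.1 ((le_coreP (subnormalIn_of_normalized ?_ ?_) (hpG.to_le le_sup_left)).trans (hq p hp).le))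
    · exact (coreIn_le _ _).trans (inf_le_right.trans P.KH)
    · exact inf_le_left.trans (le_normalizer_coreIn _ _)
  have hQ := alt_le_range P Q hP e hor
  obtain ⟨hBK, hKB⟩ := not_le_kernel P Q hP hQ hcardN.symm hK hjoin
  haveI : Nontrivial (Fin d) := Fin.nontrivial_iff_two_le.2 (by omega)
  rcases split P Q hP hQ hBK hKB (inf_eq_bot P Q hP hQ hBK hKB e hab hor) e with ⟨h1, h2⟩ | ⟨h1, h2⟩
  · exact Or.inl ⟨by rw [← hPidx, h1]; exact alternatingGroup.index_eq_two, h2⟩
  · exact Or.inr ⟨Subgroup.index_eq_one.1 (by rw [← hPidx, h1, Subgroup.index_top]), h2⟩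

end CfsgLib.AltSub
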