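import Cfsg.Agent.Lib.SuborbitBound.Alt.Basic

/-!
# The kernels of two alternating actions with a common point stabiliser meet trivially
-/

set_option autoImplicit false

namespace CfsgLib.AltSub

open Equiv Subgroup
open scoped commutatorElement

variable {G : Type*} [Group G]

/-- `X` is invariant under conjugation by `H`. -/
def Inv (H X : Subgroup G) : Prop := ∀ h ∈ H, ∀ x ∈ X, h * x * h⁻¹ ∈ X

/-- The only element all of whose `N`-conjugates lie in `D` is trivial. -/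
def CoreFree (N D : Subgroup G) : Prop := ∀ x : G, (∀ n ∈ N, n⁻¹ * x * n ∈ D) → x = 1

/-- Conjugation into a subgroup. -/
def conjTo (S H : Subgroup G) (n : G) (h : ∀ s ∈ S, n⁻¹ * s * n ∈ H) : S →* H :=
  MonoidHom.mk' (fun s => ⟨n⁻¹ * s * n, h s s.2⟩) fun a b => Subtype.ext (by
    show n⁻¹ * ((a : G) * b) * n = n⁻¹ * a * n * (n⁻¹ * b * n)
    group)

variable {M N H K B : Subgroup G} {d : ℕ}

theorem factorial_bound (hd : 6 ≤ d) :
    2 * (d - 1).factorial < d.factorial ∧ 4 * d.factorial < d.factorial * (d - 1).factorial := by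
  obtain ⟨c, rfl⟩ : ∃ c, d = c + 6 := ⟨d - 6, by omega⟩
  have h1 : (5 : ℕ).factorial ≤ (c + 5).factorial := Nat.factorial_le (by omega)
  rw [show (5 : ℕ).factorial = 120 from rfl] at h1
  have h2 : (c + 6).factorial = (c + 6) * (c + 5).factorial := Nat.factorial_succ _
  refine ⟨?_, ?_⟩
  · rw [h2, show c + 6 - 1 = c + 5 by omega]
    exact Nat.mul_lt_mul_of_pos_right (by omega) (by omega)
  · rw [show c + 6 - 1 = c + 5 by omega, mul_comm 4]
    exact Nat.mul_lt_mul_of_pos_left (by omega) (Nat.factorial_pos _)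

variable [Finite G]

/-- No subgroup of `B` maps onto an alternating group of degree `d`. -/
theorem no_alt_sub (P : Act M H K d) (hBH : B ≤ H) (hNB : Inv N B) (hc : CoreFree N (B ⊓ K)) {S : Subgroup G}
    (hSB : S ≤ B) (τ : S →* Perm (Fin d)) (hτ : alternatingGroup (Fin d) ≤ τ.range) : False := by
  obtain ⟨σ, hσ, -, -⟩ := P.exists_sigma
  have hd := P.six
  have hconj : ∀ n : N, ∀ s ∈ S, (n : G)⁻¹ * s * n ∈ H := fun n s hs => hBH (by
    have := hNB _ (inv_mem n.2) s (hSB hs)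
    rwa [inv_inv] at this)
  let σn : N → S →* Perm (Fin (d - 1)) := fun n => σ.comp (conjTo S H n (hconj n))
  refine no_big_quotient τ (by rw [Nat.card_fin]; omega) hτ (fun n : N => (σn n).ker)
    (fun n => MonoidHom.normal_ker _) (fun n => ?_) ?_
  · rw [Subgroup.index_ker, Nat.card_fin]
    have h1 : Nat.card (σn n).range ≤ (d - 1).factorial := (Subgroup.card_le_card_group _).trans (by
      rw [Nat.card_perm, Nat.card_fin])
    have h2 := (factorial_bound hd).1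
    omega
  · refine (Subgroup.eq_bot_iff_forall _).2 fun s hs => Subtype.ext (hc _ fun n hn => ⟨?_, ?_⟩)
    · have := hNB _ (inv_mem hn) s (hSB s.2)
      rwa [inv_inv] at this
    · exact (hσ _).1 (MonoidHom.mem_ker.1 ((Subgroup.mem_iInf.1 hs) ⟨n, hn⟩))

/-- Structure of `B` when the kernels meet non-trivially. -/
theorem side (P : Act M H K d) (Q : Act N H B d) (hP : alternatingGroup (Fin d) ≤ P.ρ.range)
    (hQ : alternatingGroup (Fin d) ≤ Q.ρ.range) (hBK : ¬ B ≤ K)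
    (hab : ∀ X : Subgroup G, X ≤ H → Inv H X → (∀ x ∈ X, ∀ y ∈ X, x * y = y * x) → X = ⊥)
    (hc : CoreFree N (B ⊓ K)) :
    B ⊓ K = ⊥ ∨ ∃ T : Subgroup G, T ≤ B ∧ T ≠ ⊥ ∧ T ⊓ K = ⊥ ∧ Inv H T ∧
      (∀ X : Subgroup G, X ≤ B ⊓ K → Inv H X → X ≠ ⊥ → ∀ h ∈ K, (∀ x ∈ X, h * x = x * h) → h = 1) ∧
      ∀ S : Subgroup G, S ≤ N → (∀ s ∈ S, ∀ b ∈ B, s * b = b * s) → S ≤ B := by
  classical
  rcases eq_or_ne (B ⊓ K) ⊥ with hD | hD
  · exact Or.inl hD
  right
  obtain ⟨σ, hσ, hσalt', hσsign⟩ := P.exists_sigma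
  have hσalt := hσalt' hP
  have hd := P.six
  have h5 : 5 ≤ Nat.card (Fin (d - 1)) := by rw [Nat.card_fin]; omega
  have hBH : B ≤ H := Q.KH
  have hNB : Inv N B := fun n hn x hx => Q.conj_mem hn hx
  have hHK : Inv H K := fun h hh x hx => P.conj_mem (P.HM hh) hx
  have hHB : Inv H B := fun h hh x hx => hNB h (Q.HM hh) x hx
  have hinv : ∀ {X : Subgroup G}, Inv H X → ∀ {h : G}, h ∈ H → ∀ {x : G}, x ∈ X → h⁻¹ * x * h ∈ X := by
    intro X hX h hh x hx
    have := hX h⁻¹ (inv_mem hh) x hx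
    rwa [inv_inv] at this
  -- the image of `B`
  haveI : (B.subgroupOf H).Normal := ⟨fun x hx h => hHB h h.2 _ hx⟩
  have hBalt : alternatingGroup (Fin (d - 1)) ≤ (B.subgroupOf H).map σ := by
    refine (map_eq_bot_or_alt_le σ h5 hσalt _).resolve_left fun h => hBK fun x hx => ?_
    exact (hσ ⟨x, hBH hx⟩).1 ((Subgroup.eq_bot_iff_forall _).1 h _ ⟨⟨x, hBH hx⟩, hx, rfl⟩)
  set R := ⁅B, B⁆ with hR
  have hRB : R ≤ B := Subgroup.commutator_le.2 fun a ha b hb =>
    mul_mem (mul_mem (mul_mem ha hb) (inv_mem ha)) (inv_mem hb)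
  have hRH : R ≤ H := hRB.trans hBH
  have hNR : Inv N R := by
    intro n hn x hx
    have hle : R ≤ R.comap (MulAut.conj n).toMonoidHom := Subgroup.commutator_le.2 fun a ha b hb => by
      show n * ⁅a, b⁆ * n⁻¹ ∈ R
      rw [show n * ⁅a, b⁆ * n⁻¹ = ⁅n * a * n⁻¹, n * b * n⁻¹⁆ by rw [commutatorElement_def, commutatorElement_def]; group]
      exact Subgroup.commutator_mem_commutator (hNB n hn a ha) (hNB n hn b hb)
    exact hle hx
  have hHR : Inv H R := fun h hh x hx => hNR h (Q.HM hh) x hx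
  -- the image of `R`
  have hRalt : (R.subgroupOf H).map σ = alternatingGroup (Fin (d - 1)) := by
    have e : R.subgroupOf H = ⁅B.subgroupOf H, B.subgroupOf H⁆ := by
      refine Subgroup.map_injective H.subtype_injective ?_
      rw [Subgroup.map_commutator, Subgroup.map_subgroupOf_eq_of_le hRH, Subgroup.map_subgroupOf_eq_of_le hBH]
    rw [e, Subgroup.map_commutator]
    refine le_antisymm ((Subgroup.commutator_mono le_top le_top).trans alternatingGroup.commutator_perm_le) ?_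
    rw [← commutator_alternatingGroup_eq_self h5]
    exact Subgroup.commutator_mono hBalt hBalt
  -- the distinguished subgroup
  let T : Subgroup G :=
    { carrier := {x | x ∈ R ∧ ∀ n ∈ N, n ∉ H → n⁻¹ * x * n ∈ K}
      one_mem' := ⟨one_mem _, fun n _ _ => by rw [mul_one, inv_mul_cancel]; exact one_mem _⟩
      mul_mem' := fun {x y} hx hy => ⟨mul_mem hx.1 hy.1, fun n hn hnH => by
        rw [show n⁻¹ * (x * y) * n = n⁻¹ * x * n * (n⁻¹ * y * n) by group]
        exact mul_mem (hx.2 n hn hnH) (hy.2 n hn hnH)⟩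
      inv_mem' := fun {x} hx => ⟨inv_mem hx.1, fun n hn hnH => by
        rw [show n⁻¹ * x⁻¹ * n = (n⁻¹ * x * n)⁻¹ by group]
        exact inv_mem (hx.2 n hn hnH)⟩ }
  have hTB : T ≤ B := fun x hx => hRB hx.1
  have hHT : Inv H T := by
    intro h hh x hx
    refine ⟨hHR h hh x hx.1, fun n hn hnH => ?_⟩
    rw [show n⁻¹ * (h * x * h⁻¹) * n = (h⁻¹ * n)⁻¹ * x * (h⁻¹ * n) by group]
    exact hx.2 _ (mul_mem (inv_mem (Q.HM hh)) hn) fun h' => hnH (by simpa using mul_mem hh h')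
  have hTK : T ⊓ K = ⊥ := (Subgroup.eq_bot_iff_forall _).2 fun x hx => hc x fun n hn => ⟨by
    have := hNB n⁻¹ (inv_mem hn) x (hTB hx.1)
    rwa [inv_inv] at this, by
    by_cases hnH : n ∈ H
    · exact hinv hHK hnH hx.2
    · exact hx.1.2 n hn hnH⟩
  -- the image of `T`
  have hTalt : alternatingGroup (Fin (d - 1)) ≤ (T.subgroupOf H).map σ := by
    let τ : R.subgroupOf H →* Perm (Fin (d - 1)) := σ.comp (R.subgroupOf H).subtype
    have hτ : alternatingGroup (Fin (d - 1)) ≤ τ.range := by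
      rw [MonoidHom.range_comp, Subgroup.range_subtype, hRalt]
    have hconj : ∀ n : {n : G // n ∈ N ∧ n ∉ H}, ∀ r ∈ R, (n : G)⁻¹ * r * n ∈ H := fun n r hr => hRH (by
      have := hNR _ (inv_mem n.2.1) r hr
      rwa [inv_inv] at this)
    let X : {n : G // n ∈ N ∧ n ∉ H} → Subgroup (R.subgroupOf H) := fun n =>
      ((σ.comp (conjTo R H n (hconj n))).comp (Subgroup.subgroupOfEquivOfLe hRH).toMonoidHom).ker
    have hXm : ∀ n r, r ∈ X n ↔ (n : G)⁻¹ * ((r : H) : G) * n ∈ K := fun n r => hσ _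
    have hX : ∀ n, alternatingGroup (Fin (d - 1)) ≤ (X n).map τ := by
      intro n
      haveI : (X n).Normal := MonoidHom.normal_ker _
      refine (map_eq_bot_or_alt_le τ h5 hτ (X n)).resolve_left fun h => ?_
      rw [Subgroup.map_eq_bot_iff] at h
      have hiff : ∀ r ∈ R, ((n : G)⁻¹ * r * n ∈ K ↔ r ∈ K) := by
        intro r hr
        refine ⟨fun hk => (hσ _).1 (MonoidHom.mem_ker.1 (h ((hXm n ⟨⟨r, hRH hr⟩, hr⟩).2 hk))), fun hk => ?_⟩
        have hsub : {x : G | x ∈ R ∧ (n : G)⁻¹ * x * n ∈ K} ⊆ {x : G | x ∈ R ∧ x ∈ K} := fun x hx =>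
          ⟨hx.1, (hσ _).1 (MonoidHom.mem_ker.1 (h ((hXm n ⟨⟨x, hRH hx.1⟩, hx.1⟩).2 hx.2)))⟩
        have hcard : {x : G | x ∈ R ∧ x ∈ K}.ncard ≤ {x : G | x ∈ R ∧ (n : G)⁻¹ * x * n ∈ K}.ncard := by
          refine Set.ncard_le_ncard_of_injOn (fun x => (n : G) * x * (n : G)⁻¹) ?_ (fun x _ y _ e => by simpa using e)
            (Set.toFinite _)
          intro x hx
          exact ⟨hNR _ n.2.1 x hx.1, by rw [show (n : G)⁻¹ * ((n : G) * x * (n : G)⁻¹) * n = x by group]; exact hx.2⟩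
        exact ((Set.eq_of_subset_of_ncard_le hsub hcard (Set.toFinite _)).ge ⟨hr, hk⟩).2
      let W : Subgroup G :=
        { carrier := {g | ∀ r : G, (g⁻¹ * r * g ∈ R ⊓ K ↔ r ∈ R ⊓ K)}
          one_mem' := fun r => by simp
          mul_mem' := fun {a b} ha hb r => by
            rw [show (a * b)⁻¹ * r * (a * b) = b⁻¹ * (a⁻¹ * r * a) * b by group, hb, ha]
          inv_mem' := fun {a} ha r => by
            rw [← ha (a⁻¹⁻¹ * r * a⁻¹)]
            simp [mul_assoc] }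
      have hRg : ∀ g ∈ N, ∀ r, g⁻¹ * r * g ∈ R ↔ r ∈ R := fun g hg r => ⟨fun h' => by
        have := hNR g hg _ h'
        rwa [show g * (g⁻¹ * r * g) * g⁻¹ = r by group] at this, fun h' => by
        have := hNR _ (inv_mem hg) r h'
        rwa [inv_inv] at this⟩
      have hKg : ∀ g ∈ H, ∀ r, g⁻¹ * r * g ∈ K ↔ r ∈ K := fun g hg r => ⟨fun h' => by
        have := hHK g hg _ h'
        rwa [show g * (g⁻¹ * r * g) * g⁻¹ = r by group] at this, hinv hHK hg⟩
      have hW : N ≤ W := Q.maximal hQ (W := W) (fun g hg r => by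
        rw [Subgroup.mem_inf, Subgroup.mem_inf, hRg g (Q.HM hg), hKg g hg])
        (show (n : G) ∈ W from fun r => by
          rw [Subgroup.mem_inf, Subgroup.mem_inf, hRg _ n.2.1]
          exact and_congr_right fun hr => hiff r hr) n.2.1 n.2.2
      have hE : R ⊓ K = ⊥ := (Subgroup.eq_bot_iff_forall _).2 fun x hx => hc x fun m hm =>
        have hm' := (hW hm x).2 hx
        ⟨hRB hm'.1, hm'.2⟩
      refine hD (hab (B ⊓ K) (inf_le_left.trans hBH) (fun h hh x hx => ⟨hHB h hh x hx.1, hHK h hh x hx.2⟩)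
        fun x hx y hy => ?_)
      have hxy : ⁅x, y⁆ ∈ R ⊓ K := ⟨Subgroup.commutator_mem_commutator hx.1 hy.1,
        mul_mem (mul_mem (mul_mem hx.2 hy.2) (K.inv_mem hx.2)) (K.inv_mem hy.2)⟩
      rw [hE, Subgroup.mem_bot] at hxy
      exact commutatorElement_eq_one_iff_mul_comm.1 hxy
    have h := alt_le_map_iInf τ h5 hτ X (fun n => MonoidHom.normal_ker _) hX
    refine h.trans ?_
    rintro _ ⟨r, hr, rfl⟩
    exact ⟨r.1, ⟨r.2, fun n hn hnH => (hXm ⟨n, hn, hnH⟩ r).1 ((Subgroup.mem_iInf.1 hr) ⟨n, hn, hnH⟩)⟩, rfl⟩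
  have hTne : T ≠ ⊥ := fun e => by
    rw [e, Subgroup.bot_subgroupOf, Subgroup.map_bot, le_bot_iff] at hTalt
    have := card_alt (α := Fin (d - 1)) (by omega)
    rw [hTalt, Subgroup.card_bot] at this
    have h2 := Nat.self_le_factorial (Nat.card (Fin (d - 1)))
    omega
  obtain ⟨t, ht, ht1⟩ := (Subgroup.bot_or_exists_ne_one T).resolve_left hTne
  -- conjugates of `T` lie in `K`
  have hmove : ∀ {k x : G}, k ∈ N → k ∉ H → k⁻¹ * x * k ∈ T → x ∈ B ⊓ K := by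
    intro k x hk hkH hx
    have h1 := hx.2 k⁻¹ (inv_mem hk) fun h => hkH (by simpa using inv_mem h)
    have h2 := hNB k hk _ (hTB hx)
    rw [inv_inv, show k * (k⁻¹ * x * k) * k⁻¹ = x by group] at h1
    rw [show k * (k⁻¹ * x * k) * k⁻¹ = x by group] at h2
    exact ⟨h2, h1⟩
  have hnotfix : ∀ k ∈ N, k ∉ H → k * t ≠ t * k := by
    intro k hk hkH hkt
    have h1 := hmove (x := t) hk hkH (by
      rw [mul_assoc, ← hkt, inv_mul_cancel_left]; exact ht)
    exact ht1 ((Subgroup.eq_bot_iff_forall _).1 hTK t ⟨ht, h1.2⟩)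
  have hfix : ∀ g ∈ H, (∀ n ∈ N, n ∉ H → ∀ x, n⁻¹ * x * n ∈ T → g * x = x * g) → g ∈ B := by
    intro g hg hcomm
    refine Q.core hQ hg fun n hn hnH => ?_
    by_contra hk
    refine hnotfix _ (mul_mem (mul_mem (inv_mem hn) (Q.HM hg)) hn) hk ?_
    have h1 := hcomm n hn hnH (n * t * n⁻¹) (by rw [show n⁻¹ * (n * t * n⁻¹) * n = t by group]; exact ht)
    calc n⁻¹ * g * n * t = n⁻¹ * (g * (n * t * n⁻¹)) * n := by group
      _ = n⁻¹ * (n * t * n⁻¹ * g) * n := by rw [h1]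
      _ = t * (n⁻¹ * g * n) := by group
  have hkill : ∀ b ∈ B, (∀ n ∈ N, ∀ x, n⁻¹ * x * n ∈ T → b * x = x * b) → b = 1 := by
    intro b hb hcomm
    refine hc b fun n hn => ?_
    have hb' : n⁻¹ * b * n ∈ B := by
      have := hNB n⁻¹ (inv_mem hn) b hb
      rwa [inv_inv] at this
    refine ⟨hb', (hσ ⟨_, hBH hb'⟩).1 (eq_one_of_commute (by omega) fun a ha => ?_)⟩
    obtain ⟨s, hs, rfl⟩ := hTalt ha
    rw [← map_mul, ← map_mul]
    congr 1
    refine Subtype.ext ?_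
    have h1 := hcomm n hn (n * (s : G) * n⁻¹) (by rw [show n⁻¹ * (n * (s : G) * n⁻¹) * n = s by group]; exact hs)
    show n⁻¹ * b * n * (s : G) = s * (n⁻¹ * b * n)
    calc n⁻¹ * b * n * (s : G) = n⁻¹ * (b * (n * (s : G) * n⁻¹)) * n := by group
      _ = n⁻¹ * (n * (s : G) * n⁻¹ * b) * n := by rw [h1]
      _ = s * (n⁻¹ * b * n) := by group
  have hTD : ∀ x ∈ B ⊓ K, ∀ s ∈ T, x * s = s * x := by
    intro x hx s hs
    have h1 : x * s * x⁻¹ * s⁻¹ ∈ T ⊓ K := ⟨mul_mem (hHT x (hBH hx.1) s hs) (T.inv_mem hs), by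
      rw [show x * s * x⁻¹ * s⁻¹ = x * (s * x⁻¹ * s⁻¹) by group]
      exact mul_mem hx.2 (hHK s (hBH (hTB hs)) _ (inv_mem hx.2))⟩
    rw [hTK, Subgroup.mem_bot, mul_inv_eq_one] at h1
    exact mul_inv_eq_iff_eq_mul.1 h1
  refine ⟨T, hTB, hTne, hTK, hHT, ?_, ?_⟩
  · intro X hX hHX hXne
    have hsomeX : ∃ n ∈ N, n ∉ H ∧ ∃ x ∈ X, x ≠ 1 ∧ n⁻¹ * x * n ∈ T := by
      by_contra hcon
      push Not at hcon
      refine hXne ((Subgroup.eq_bot_iff_forall _).2 fun x hx => hkill x (hX hx).1 fun n hn y hy => ?_)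
      by_cases hnH : n ∈ H
      · have hyT : y ∈ T := by
          have := hHT n hnH _ hy
          rwa [show n * (n⁻¹ * y * n) * n⁻¹ = y by group] at this
        exact hTD x (hX hx) y hyT
      · have hyD := hmove hn hnH hy
        by_contra hne
        refine hcon n hn hnH (x * y * x⁻¹ * y⁻¹) ?_
          (fun e => hne (mul_inv_eq_iff_eq_mul.1 (mul_inv_eq_one.1 e))) ?_
        · rw [show x * y * x⁻¹ * y⁻¹ = x * (y * x⁻¹ * y⁻¹) by group]
          exact mul_mem hx (hHX y (hBH hyD.1) _ (inv_mem hx))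
        · have hxb : n⁻¹ * x * n ∈ B := by
            have := hNB n⁻¹ (inv_mem hn) x (hX hx).1
            rwa [inv_inv] at this
          rw [show n⁻¹ * (x * y * x⁻¹ * y⁻¹) * n =
            n⁻¹ * x * n * (n⁻¹ * y * n) * (n⁻¹ * x * n)⁻¹ * (n⁻¹ * y * n)⁻¹ by group]
          exact mul_mem (hHT _ (hBH hxb) _ hy) (inv_mem hy)
    obtain ⟨n, hn, hnH, x0, hx0, hx01, hx0T⟩ := hsomeX
    have hfull : ∀ s ∈ T, n * s * n⁻¹ ∈ X := by
      let Y : Subgroup G := T ⊓ X.comap (MulAut.conj n).toMonoidHom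
      have hY : alternatingGroup (Fin (d - 1)) ≤ (Y.subgroupOf H).map σ := by
        refine alt_le_of_normalized h5 ?_ fun e => hx01 ?_
        · rintro a ha _ ⟨⟨y, hyH⟩, hy, rfl⟩
          rw [← hRalt] at ha
          obtain ⟨⟨r, hrH⟩, hr, rfl⟩ := ha
          refine ⟨⟨r, hrH⟩ * ⟨y, hyH⟩ * ⟨r, hrH⟩⁻¹, ⟨hHT r hrH y hy.1, ?_⟩, by rw [map_mul, map_mul, map_inv]⟩
          show n * (r * y * r⁻¹) * n⁻¹ ∈ X
          rw [show n * (r * y * r⁻¹) * n⁻¹ = n * r * n⁻¹ * (n * y * n⁻¹) * (n * r * n⁻¹)⁻¹ by group]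
          exact hHX _ (hRH (hNR n hn r hr)) _ hy.2
        · have h1 : n⁻¹ * x0 * n ∈ Y := ⟨hx0T, by
            show n * (n⁻¹ * x0 * n) * n⁻¹ ∈ X
            rw [show n * (n⁻¹ * x0 * n) * n⁻¹ = x0 by group]; exact hx0⟩
          have h2 : n⁻¹ * x0 * n ∈ T ⊓ K := ⟨h1.1, (hσ ⟨_, hBH (hTB h1.1)⟩).1
            ((Subgroup.eq_bot_iff_forall _).1 e _ ⟨⟨_, hBH (hTB h1.1)⟩, h1, rfl⟩)⟩
          rw [hTK, Subgroup.mem_bot] at h2
          have : x0 = n * (n⁻¹ * x0 * n) * n⁻¹ := by group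
          rw [this, h2]; group
      intro s hs
      have hsa : σ ⟨s, hBH (hTB hs)⟩ ∈ alternatingGroup (Fin (d - 1)) := hRalt ▸ ⟨⟨s, _⟩, hs.1, rfl⟩
      obtain ⟨y, hy, hye⟩ := hY hsa
      have h1 : (y : G)⁻¹ * s ∈ T ⊓ K := ⟨mul_mem (T.inv_mem hy.1) hs, by
        refine (hσ (y⁻¹ * ⟨s, hBH (hTB hs)⟩)).1 ?_
        rw [map_mul, map_inv, hye, inv_mul_cancel]⟩
      rw [hTK, Subgroup.mem_bot, inv_mul_eq_one] at h1
      rw [← h1]
      exact hy.2
    intro g hg hcomm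
    have hgB : g ∈ B := hfix g (P.KH hg) fun m hm hmH y hy => by
      obtain ⟨h, hh, hk⟩ := Q.trans hQ hn hnH hm hmH
      refine hcomm y ?_
      have h1 : n⁻¹ * (h⁻¹ * y * h) * n ∈ T := by
        rw [show n⁻¹ * (h⁻¹ * y * h) * n = (m⁻¹ * (h * n))⁻¹ * (m⁻¹ * y * m) * (m⁻¹ * (h * n)) by group]
        exact hinv hHT hk hy
      have h2 := hfull _ h1
      rw [show n * (n⁻¹ * (h⁻¹ * y * h) * n) * n⁻¹ = h⁻¹ * y * h by group] at h2
      have h3 := hHX h hh _ h2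
      rwa [show h * (h⁻¹ * y * h) * h⁻¹ = y by group] at h3
    refine hkill g hgB fun m hm y hy => ?_
    by_cases hmH : m ∈ H
    · have hyT : y ∈ T := by
        have := hHT m hmH _ hy
        rwa [show m * (m⁻¹ * y * m) * m⁻¹ = y by group] at this
      exact hTD g ⟨hgB, hg⟩ y hyT
    · obtain ⟨h, hh, hk⟩ := Q.trans hQ hn hnH hm hmH
      refine hcomm y ?_
      have h1 : n⁻¹ * (h⁻¹ * y * h) * n ∈ T := by
        rw [show n⁻¹ * (h⁻¹ * y * h) * n = (m⁻¹ * (h * n))⁻¹ * (m⁻¹ * y * m) * (m⁻¹ * (h * n)) by group]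
        exact hinv hHT hk hy
      have h2 := hfull _ h1
      rw [show n * (n⁻¹ * (h⁻¹ * y * h) * n) * n⁻¹ = h⁻¹ * y * h by group] at h2
      have h3 := hHX h hh _ h2
      rwa [show h * (h⁻¹ * y * h) * h⁻¹ = y by group] at h3
  · intro S hSN hcomm s hs
    have hsH : s ∈ H := by
      by_contra h
      exact hnotfix s (hSN hs) h (hcomm s hs t (hTB ht))
    exact hfix s hsH fun m hm hmH y hy => hcomm s hs y (hmove hm hmH hy).1

end CfsgLib.AltSub
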