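import Cfsg.Agent.Lib.SuborbitBound.Alt.Main

/-!
# The isomorphism type of the point stabiliser
-/

set_option autoImplicit false

namespace CfsgLib.AltSub

open Equiv Subgroup

variable {G : Type*} [Group G] {M N H K B : Subgroup G} {d : ℕ}

theorem eq_alt_of_sign {n : ℕ} {X : Subgroup (Perm (Fin n))} (hX : alternatingGroup (Fin n) ≤ X)
    (h : ∀ x ∈ X, Perm.sign x = 1) : X = alternatingGroup (Fin n) :=
  le_antisymm (fun x hx => Perm.mem_alternatingGroup.2 (h x hx)) hX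

theorem eq_top_of_odd {n : ℕ} {X : Subgroup (Perm (Fin n))} (hX : alternatingGroup (Fin n) ≤ X) {x : Perm (Fin n)}
    (hx : x ∈ X) (hs : Perm.sign x ≠ 1) : X = ⊤ := by
  refine (Subgroup.eq_top_iff' X).2 fun y => ?_
  rcases Int.units_eq_one_or (Perm.sign y) with h | h
  · exact hX (Perm.mem_alternatingGroup.2 h)
  · have h1 : y * x ∈ X := hX (Perm.mem_alternatingGroup.2 (by
      rw [map_mul, h, (Int.units_eq_one_or _).resolve_left hs]; decide))
    simpa using mul_mem h1 (X.inv_mem hx)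

/-- A homomorphism describing `M` as a subgroup of a product of symmetric groups. -/
theorem exists_kappa [Finite G] (P : Act M H K d) (Q : Act N H B d) (hP : alternatingGroup (Fin d) ≤ P.ρ.range)
    (hQ : alternatingGroup (Fin d) ≤ Q.ρ.range) (hBK : ¬ B ≤ K) (hKB : ¬ K ≤ B) (hD : B ⊓ K = ⊥) :
    ∃ κ : M →* Perm (Fin (d - 1)), (∀ m, P.ρ m = 1 → κ m = 1 → m = 1) ∧
      (∀ a ∈ alternatingGroup (Fin d), ∀ b ∈ alternatingGroup (Fin (d - 1)), ∃ m, P.ρ m = a ∧ κ m = b) ∧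
      (∀ m, ∃ h : N, Perm.sign (Q.ρ h) = Perm.sign (κ m)) := by
  have hd := P.six
  obtain ⟨σ, hσ, hσalt', hsign⟩ := Q.exists_sigma
  have hσalt := hσalt' hQ
  have h5 : 5 ≤ Nat.card (Fin (d - 1)) := by rw [Nat.card_fin]; omega
  haveI : (K.subgroupOf H).Normal := ⟨fun _ hx h => P.invH h h.2 _ hx⟩
  have hKalt : alternatingGroup (Fin (d - 1)) ≤ (K.subgroupOf H).map σ :=
    (map_eq_bot_or_alt_le σ h5 hσalt _).resolve_left fun h => hKB fun x hx =>
      (hσ ⟨x, P.KH hx⟩).1 ((Subgroup.eq_bot_iff_forall _).1 h _ ⟨⟨x, P.KH hx⟩, hx, rfl⟩)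
  -- the centraliser of `K`
  let C : Subgroup M :=
    { carrier := {c | ∀ x ∈ K, (c : G) * x = x * c}
      one_mem' := fun x _ => by simp
      mul_mem' := fun {a b} ha hb x hx => by
        rw [Subgroup.coe_mul, mul_assoc, hb x hx, ← mul_assoc, ha x hx, mul_assoc]
      inv_mem' := fun {a} ha x hx => by
        rw [Subgroup.coe_inv, inv_mul_eq_iff_eq_mul, ← mul_assoc, ha x hx, mul_inv_cancel_right] }
  haveI hCn : C.Normal := ⟨fun c hc m x hx => by
    have h1 := hc _ (P.conj_mem (inv_mem m.2) hx)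
    rw [Subgroup.coe_mul, Subgroup.coe_mul, Subgroup.coe_inv]
    calc (m : G) * c * (m : G)⁻¹ * x
        = m * ((c : G) * ((m : G)⁻¹ * x * (m : G)⁻¹⁻¹)) * (m : G)⁻¹ := by group
      _ = m * ((m : G)⁻¹ * x * (m : G)⁻¹⁻¹ * c) * (m : G)⁻¹ := by rw [h1]
      _ = x * (m * c * (m : G)⁻¹) := by group⟩
  have hBC : ∀ b (hb : b ∈ B), (⟨b, P.HM (Q.KH hb)⟩ : M) ∈ C := fun b hb x hx =>
    comm_of_inf_bot Q.invH P.invH Q.KH P.KH hD hb hx
  have hCalt : alternatingGroup (Fin d) ≤ C.map P.ρ :=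
    (map_eq_bot_or_alt_le P.ρ (by rw [Nat.card_fin]; omega) hP C).resolve_left fun h => hBK fun x hx =>
      (P.ker _).1 ((Subgroup.eq_bot_iff_forall _).1 h _ ⟨_, hBC x hx, rfl⟩)
  obtain ⟨c₁, hc₁, hc₁H⟩ : ∃ c ∈ C, (c : G) ∉ H := by
    by_contra! hall
    refine hBK fun x hx => P.core hP (hall _ (hBC x hx)) fun n hn _ => ?_
    have h1 : (⟨n, hn⟩⁻¹ * (⟨x, P.HM (Q.KH hx)⟩ : M) * ⟨n, hn⟩) ∈ C := by
      have h2 := hCn.conj_mem _ (hBC x hx) (⟨n, hn⟩⁻¹ : M)
      rwa [inv_inv] at h2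
    exact hall _ h1
  have hdec : ∀ m : M, ∃ c ∈ C, ∃ h : M, (h : G) ∈ H ∧ c * h = m := by
    intro m
    have h1 : M ≤ (C ⊔ H.subgroupOf M).map M.subtype := P.maximal hP
      (fun x hx => ⟨⟨x, P.HM hx⟩, mem_sup_right hx, rfl⟩) (w := (c₁ : G)) ⟨c₁, mem_sup_left hc₁, rfl⟩ c₁.2 hc₁H
    obtain ⟨m', hm', he⟩ := h1 m.2
    rw [show m' = m from Subtype.ext he] at hm'
    exact Subgroup.mem_sup_of_normal_left.1 hm'
  -- the conjugation action on `K`
  let R : M → Perm (Fin (d - 1)) → Prop := fun m π => ∀ k (hk : k ∈ K),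
    π * σ ⟨k, P.KH hk⟩ * π⁻¹ = σ ⟨(m : G) * k * (m : G)⁻¹, P.KH (P.conj_mem m.2 hk)⟩
  have huniq : ∀ m π π', R m π → R m π' → π = π' := by
    intro m π π' h h'
    refine (inv_mul_eq_one.1 (eq_one_of_commute (g := π'⁻¹ * π) (by omega) fun a ha => ?_)).symm
    obtain ⟨⟨k, hkH⟩, hk, rfl⟩ := hKalt ha
    have h1 := (h k hk).trans (h' k hk).symm
    calc π'⁻¹ * π * σ ⟨k, hkH⟩ = π'⁻¹ * (π * σ ⟨k, hkH⟩ * π⁻¹) * π := by group
      _ = π'⁻¹ * (π' * σ ⟨k, hkH⟩ * π'⁻¹) * π := by rw [h1]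
      _ = σ ⟨k, hkH⟩ * (π'⁻¹ * π) := by group
  have hC1 : ∀ c ∈ C, R c 1 := fun c hc k hk => by
    rw [one_mul, inv_one, mul_one]
    congr 1
    exact Subtype.ext (show k = (c : G) * k * (c : G)⁻¹ by rw [hc k hk, mul_inv_cancel_right])
  have hH1 : ∀ (h : M) (hh : (h : G) ∈ H), R h (σ ⟨h, hh⟩) := fun h hh k hk => by
    rw [← map_inv, ← map_mul, ← map_mul]
    rfl
  have hmul : ∀ m n π π', R m π → R n π' → R (m * n) (π * π') := fun m n π π' h h' k hk => by
    rw [show π * π' * σ ⟨k, P.KH hk⟩ * (π * π')⁻¹ = π * (π' * σ ⟨k, P.KH hk⟩ * π'⁻¹) * π⁻¹ by group, h' k hk,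
      h _ (P.conj_mem n.2 hk)]
    congr 1
    exact Subtype.ext (show (m : G) * ((n : G) * k * (n : G)⁻¹) * (m : G)⁻¹ = (m * n : G) * k * (m * n : G)⁻¹ by group)
  have hex : ∀ m, ∃ π, R m π := fun m => by
    obtain ⟨c, hc, h, hh, rfl⟩ := hdec m
    exact ⟨_, hmul c h _ _ (hC1 c hc) (hH1 h hh)⟩
  choose κ₀ hκ₀ using hex
  let κ : M →* Perm (Fin (d - 1)) := MonoidHom.mk' κ₀ fun m n =>
    huniq _ _ _ (hκ₀ (m * n)) (hmul m n _ _ (hκ₀ m) (hκ₀ n))
  have hκC : ∀ c ∈ C, κ c = 1 := fun c hc => huniq _ _ _ (hκ₀ c) (hC1 c hc)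
  have hκH : ∀ (h : M) (hh : (h : G) ∈ H), κ h = σ ⟨h, hh⟩ := fun h hh => huniq _ _ _ (hκ₀ h) (hH1 h hh)
  refine ⟨κ, fun m hm hm' => ?_, fun a ha b hb => ?_, fun m => ?_⟩
  · have hK := (P.ker m).1 hm
    rw [hκH m (P.KH hK)] at hm'
    have : (m : G) ∈ B ⊓ K := ⟨(hσ _).1 hm', hK⟩
    rw [hD, Subgroup.mem_bot] at this
    exact Subtype.ext this
  · obtain ⟨c, hc, rfl⟩ := hCalt ha
    obtain ⟨⟨k, hkH⟩, hk, rfl⟩ := hKalt hb
    refine ⟨c * ⟨k, P.HM hkH⟩, ?_, ?_⟩
    · rw [map_mul, (P.ker ⟨k, P.HM hkH⟩).2 hk, mul_one]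
    · rw [map_mul, hκC c hc, one_mul, hκH ⟨k, P.HM hkH⟩ hkH]
  · obtain ⟨c, hc, h, hh, rfl⟩ := hdec m
    refine ⟨⟨h, Q.HM hh⟩, ?_⟩
    rw [map_mul, hκC c hc, one_mul, hκH h hh, hsign]

/-- The possible isomorphism types. -/
theorem split [Finite G] (P : Act M H K d) (Q : Act N H B d) (hP : alternatingGroup (Fin d) ≤ P.ρ.range)
    (hQ : alternatingGroup (Fin d) ≤ Q.ρ.range) (hBK : ¬ B ≤ K) (hKB : ¬ K ≤ B) (hD : B ⊓ K = ⊥) (e : M ≃* N) :
    (P.ρ.range = alternatingGroup (Fin d) ∧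
      Nonempty (M ≃* alternatingGroup (Fin d) × alternatingGroup (Fin (d - 1)))) ∨
    (P.ρ.range = ⊤ ∧
      (Nonempty (M ≃* Perm (Fin d) × Perm (Fin (d - 1))) ∨
       Nonempty (M ≃* Perm (Fin d) × alternatingGroup (Fin (d - 1))) ∨
       Nonempty (M ≃* ((Perm.sign.comp (MonoidHom.fst (Perm (Fin d)) (Perm (Fin (d - 1))))) *
         (Perm.sign.comp (MonoidHom.snd (Perm (Fin d)) (Perm (Fin (d - 1)))))).ker))) := by
  classical
  have hd := P.six
  obtain ⟨κ, hinj, hfull, hodd⟩ := exists_kappa P Q hP hQ hBK hKB hD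
  have hinj' : ∀ m n, P.ρ m = P.ρ n → κ m = κ n → m = n := fun m n h1 h2 =>
    inv_mul_eq_one.1 (hinj (m⁻¹ * n) (by rw [map_mul, map_inv, h1, inv_mul_cancel])
      (by rw [map_mul, map_inv, h2, inv_mul_cancel]))
  have hκalt : alternatingGroup (Fin (d - 1)) ≤ κ.range := fun b hb => by
    obtain ⟨m, -, hm⟩ := hfull 1 (one_mem _) b hb
    exact ⟨m, hm⟩
  have hfill : ∀ a b, (∃ m, Perm.sign (P.ρ m) = Perm.sign a ∧ Perm.sign (κ m) = Perm.sign b) →
      ∃ m, P.ρ m = a ∧ κ m = b := by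
    rintro a b ⟨m, ha, hb⟩
    obtain ⟨m', h1, h2⟩ := hfull ((P.ρ m)⁻¹ * a)
      (Perm.mem_alternatingGroup.2 (by rw [map_mul, map_inv, ha, inv_mul_cancel])) ((κ m)⁻¹ * b)
      (Perm.mem_alternatingGroup.2 (by rw [map_mul, map_inv, hb, inv_mul_cancel]))
    exact ⟨m * m', by rw [map_mul, h1, mul_inv_cancel_left], by rw [map_mul, h2, mul_inv_cancel_left]⟩
  by_cases hA : ∀ m, Perm.sign (P.ρ m) = 1
  · left
    have hPA : P.ρ.range = alternatingGroup (Fin d) := eq_alt_of_sign hP (by rintro _ ⟨m, rfl⟩; exact hA m)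
    have hκA : ∀ m, Perm.sign (κ m) = 1 := by
      intro m
      by_contra hm
      obtain ⟨n, hn⟩ := hodd m
      have hQT : Q.ρ.range = ⊤ := eq_top_of_odd hQ ⟨n, rfl⟩ (hn ▸ hm)
      let f : M →* Perm (Fin d) := Q.ρ.comp e.toMonoidHom
      have hf : f.range = ⊤ := (Subgroup.eq_top_iff' _).2 fun p => by
        obtain ⟨n', rfl⟩ := (hQT ▸ Subgroup.mem_top p : p ∈ Q.ρ.range)
        exact ⟨e.symm n', congrArg Q.ρ (e.apply_symm_apply n')⟩
      have hcd := card_alt (α := Fin d) (by rw [Nat.card_fin]; omega)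
      rw [Nat.card_fin] at hcd
      have hidx : ∀ L : Subgroup M, L ≤ f.ker → d.factorial ≤ L.index := fun L hL => by
        have h1 := Nat.le_of_dvd (Nat.pos_of_ne_zero Subgroup.index_ne_zero_of_finite) (Subgroup.index_dvd_of_le hL)
        rwa [Subgroup.index_ker, hf, Subgroup.card_top, Nat.card_perm, Nat.card_fin] at h1
      rcases map_eq_bot_or_alt_le f (by rw [Nat.card_fin]; omega) (hf ▸ le_top) κ.ker with h | h
      · have h1 := hidx _ ((Subgroup.map_eq_bot_iff _).1 h)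
        rw [Subgroup.index_ker] at h1
        have h2 : Nat.card κ.range ≤ (d - 1).factorial :=
          (Subgroup.card_le_card_group _).trans (by rw [Nat.card_perm, Nat.card_fin])
        have := (factorial_bound hd).1
        have := Nat.factorial_pos (d - 1)
        omega
      · have hker : P.ρ.ker = K.subgroupOf M := Subgroup.ext fun x => P.ker x
        have h1 := hidx P.ρ.ker fun x hx => MonoidHom.mem_ker.2 (eq_one_of_commute (by rw [Nat.card_fin]; omega)
          fun a ha => by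
            obtain ⟨y, hy, rfl⟩ := h ha
            rw [← map_mul, ← map_mul]
            congr 1
            have hcomm := Subgroup.commute_of_normal_of_disjoint P.ρ.ker κ.ker inferInstance inferInstance
              (disjoint_iff.2 ((Subgroup.eq_bot_iff_forall _).2 fun z hz => hinj z hz.1 hz.2)) x y hx hy
            exact hcomm.eq)
        rw [Subgroup.index_ker, hPA] at h1
        have := Nat.factorial_pos d
        omega
    refine ⟨hPA, ⟨MulEquiv.ofBijective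
      ((P.ρ.codRestrict (alternatingGroup (Fin d)) fun m => Perm.mem_alternatingGroup.2 (hA m)).prod
        (κ.codRestrict (alternatingGroup (Fin (d - 1))) fun m => Perm.mem_alternatingGroup.2 (hκA m))) ⟨?_, ?_⟩⟩⟩
    · intro m n h
      exact hinj' m n (congrArg (fun x => (x.1 : Perm (Fin d))) h) (congrArg (fun x => (x.2 : Perm (Fin (d - 1)))) h)
    · rintro ⟨⟨a, ha⟩, ⟨b, hb⟩⟩
      obtain ⟨m, h1, h2⟩ := hfull a ha b hb
      exact ⟨m, Prod.ext (Subtype.ext h1) (Subtype.ext h2)⟩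
  · right
    push Not at hA
    obtain ⟨m₁, hm₁⟩ := hA
    have hm₁' := (Int.units_eq_one_or _).resolve_left hm₁
    refine ⟨eq_top_of_odd hP ⟨m₁, rfl⟩ hm₁, ?_⟩
    by_cases hκA : ∀ m, Perm.sign (κ m) = 1
    · refine Or.inr (Or.inl ⟨MulEquiv.ofBijective
        (P.ρ.prod (κ.codRestrict (alternatingGroup (Fin (d - 1))) fun m => Perm.mem_alternatingGroup.2 (hκA m)))
        ⟨?_, ?_⟩⟩)
      · intro m n h
        exact hinj' m n (congrArg Prod.fst h) (congrArg (fun x => (x.2 : Perm (Fin (d - 1)))) h)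
      · rintro ⟨a, b, hb⟩
        obtain ⟨m, h1, h2⟩ := hfill a b (by
          rw [Perm.mem_alternatingGroup.1 hb]
          rcases Int.units_eq_one_or (Perm.sign a) with h | h
          · exact ⟨1, by rw [h, map_one, map_one], by rw [map_one, map_one]⟩
          · exact ⟨m₁, hm₁'.trans h.symm, hκA m₁⟩)
        exact ⟨m, Prod.ext h1 (Subtype.ext h2)⟩
    · push Not at hκA
      obtain ⟨m₂, hm₂⟩ := hκA
      have hm₂' := (Int.units_eq_one_or _).resolve_left hm₂
      by_cases hEq : ∀ m, Perm.sign (P.ρ m) = Perm.sign (κ m)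
      · refine Or.inr (Or.inr ⟨MulEquiv.ofBijective
          ((P.ρ.prod κ).codRestrict _ fun m => by
            rw [MonoidHom.mem_ker]
            show Perm.sign (P.ρ m) * Perm.sign (κ m) = 1
            rw [hEq]; exact Int.units_mul_self _) ⟨?_, ?_⟩⟩)
        · intro m n h
          exact hinj' m n (congrArg (fun x => x.1.1) h) (congrArg (fun x => x.1.2) h)
        · rintro ⟨⟨a, b⟩, hab⟩
          have hab' : Perm.sign a * Perm.sign b = 1 := hab
          have hab'' : Perm.sign b = Perm.sign a := by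
            rcases Int.units_eq_one_or (Perm.sign a) with h | h <;>
              rcases Int.units_eq_one_or (Perm.sign b) with h' | h' <;> rw [h, h'] at hab' ⊢ <;>
              exact absurd hab' (by decide)
          obtain ⟨m, h1, h2⟩ := hfill a b (by
            rw [hab'']
            rcases Int.units_eq_one_or (Perm.sign a) with h | h
            · exact ⟨1, by rw [h, map_one, map_one], by rw [h, map_one, map_one]⟩
            · exact ⟨m₁, hm₁'.trans h.symm, (hEq m₁).symm.trans (hm₁'.trans h.symm)⟩)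
          exact ⟨m, Subtype.ext (Prod.ext h1 h2)⟩
      · push Not at hEq
        obtain ⟨m₃, hm₃⟩ := hEq
        obtain ⟨mA, hA1, hA2⟩ : ∃ m, Perm.sign (P.ρ m) = -1 ∧ Perm.sign (κ m) = 1 := by
          rcases Int.units_eq_one_or (Perm.sign (κ m₁)) with h | h
          · exact ⟨m₁, hm₁', h⟩
          · rcases Int.units_eq_one_or (Perm.sign (P.ρ m₃)) with h' | h'
            · have h3 : Perm.sign (κ m₃) = -1 := (Int.units_eq_one_or _).resolve_left fun e => hm₃ (h'.trans e.symm)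
              exact ⟨m₁ * m₃, by rw [map_mul, map_mul, hm₁', h']; decide, by rw [map_mul, map_mul, h, h3]; decide⟩
            · exact ⟨m₃, h', (Int.units_eq_one_or _).resolve_right fun e => hm₃ (h'.trans e.symm)⟩
        obtain ⟨mB, hB1, hB2⟩ : ∃ m, Perm.sign (P.ρ m) = 1 ∧ Perm.sign (κ m) = -1 := by
          rcases Int.units_eq_one_or (Perm.sign (P.ρ m₂)) with h | h
          · exact ⟨m₂, h, hm₂'⟩
          · exact ⟨m₂ * mA, by rw [map_mul, map_mul, h, hA1]; decide, by rw [map_mul, map_mul, hm₂', hA2]; decide⟩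
        refine Or.inl ⟨MulEquiv.ofBijective (P.ρ.prod κ) ⟨?_, ?_⟩⟩
        · intro m n h
          exact hinj' m n (congrArg Prod.fst h) (congrArg Prod.snd h)
        · rintro ⟨a, b⟩
          obtain ⟨m, h1, h2⟩ := hfill a b (by
            rcases Int.units_eq_one_or (Perm.sign a) with h | h <;>
              rcases Int.units_eq_one_or (Perm.sign b) with h' | h' <;> rw [h, h']
            · exact ⟨1, by rw [map_one, map_one], by rw [map_one, map_one]⟩
            · exact ⟨mB, hB1, hB2⟩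
            · exact ⟨mA, hA1, hA2⟩
            · exact ⟨mA * mB, by rw [map_mul, map_mul, hA1, hB1]; decide, by rw [map_mul, map_mul, hA2, hB2]; decide⟩)
          exact ⟨m, Prod.ext h1 h2⟩

end CfsgLib.AltSub
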